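import Cfsg.Agent.Lib.G2F.Sp5
import Cfsg.Prelude.Def_Spor_HN
import Cfsg.Agent.Lib.M4.Th
import Cfsg.Agent.Lib.RV.Th

/-!
# S5211, `q = 5`: the Baby Monster contains `HN` with index prime to `5`, and `5^{1+2}:3` (inside `Th`).
-/

set_option autoImplicit false
set_option maxRecDepth 1000000

namespace Cfsg.Lib.G2F

open Subgroup
open scoped commutatorElement

section
open Cfsg.Lib.Calc Cfsg.Lib.F2 Cfsg.Lib.Big Cfsg.Lib.Th Cfsg.Lib.RV

/-- generators of `5^{1+2}` and an element of order three of its normalizer -/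
structure W5 {G : Type*} [Group G] (x y z r : G) : Prop where
  x5 : x ^ 5 = 1
  z5 : z ^ 5 = 1
  xy : x * y = z * y * x
  xz : Commute x z
  yz : Commute y z
  r3 : r ^ 3 = z ^ 4
  ry : r * y * r⁻¹ = x
  rx : r * (x ^ 4 * y ^ 4 * z ^ 2) * r⁻¹ = y
  rz : Commute r z

theorem W5.map {G G' : Type*} [Group G] [Group G'] {x y z r : G} (h : W5 x y z r) (f : G →* G') : W5 (f x) (f y) (f z) (f r) :=
  ⟨by rw [← map_pow, h.x5, map_one], by rw [← map_pow, h.z5, map_one], by simpa only [map_mul] using congrArg f h.xy, h.xz.map f,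
    h.yz.map f, by rw [← map_pow, h.r3, map_pow], by simpa only [map_mul, map_inv] using congrArg f h.ry,
    by simpa only [map_mul, map_inv, map_pow] using congrArg f h.rx, h.rz.map f⟩

theorem W5.out {G : Type*} [Group G] [Finite G] {x y z r : G} (h : W5 x y z r) (z1 : z ≠ 1) :
    ∃ (E : Subgroup G) (a b r : G), IsPGroup 5 E ∧ a ∈ E ∧ b ∈ E ∧ ⁅a, b⁆ ≠ 1 ∧ (∀ e ∈ E, Commute e ⁅a, b⁆) ∧ r ^ 3 = 1 ∧
      r ∈ normalizer (E : Set G) ∧ Commute r ⁅a, b⁆ ∧ ¬ Commute r a := by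
  have y5 : y ^ 5 = 1 := by have := h.x5; rwa [← h.ry, conj_pow, conj_eq_one_iff] at this
  obtain ⟨ι, i1, i2, i3⟩ := He.exists_hom (p := 5) (by decide) h.x5 y5 h.z5 h.xy h.xz h.yz
  have c : ⁅y, x⁆ = z⁻¹ := by
    rw [← commutatorElement_inv, commutatorElement_def, h.xy, mul_inv_cancel_right, mul_inv_cancel_right]
  have m1 : x ∈ ι.range := ⟨_, i1⟩
  have m2 : y ∈ ι.range := ⟨_, i2⟩
  have m3 : z ∈ ι.range := ⟨_, i3⟩
  have rz : r * z * r⁻¹ = z := by rw [h.rz.eq, mul_inv_cancel_right]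
  refine ⟨ι.range, y, x, r * z ^ 2, He.isPGroup.of_surjective _ ι.rangeRestrict_surjective, m2, m1, c ▸ inv_ne_one.2 z1, ?_,
    by rw [(h.rz.pow_right 2).mul_pow, h.r3, ← pow_mul, ← pow_add, show 4 + 2 * 3 = 5 * 2 from rfl, pow_mul, h.z5, one_pow],
    mul_mem (mem_normalizer_fintype ?_) (le_normalizer (pow_mem m3 2)),
    c ▸ (h.rz.mul_left ((Commute.refl z).pow_left 2)).inv_right, fun e => z1 ?_⟩
  · rintro _ ⟨w, rfl⟩
    rw [c, ← i3]
    exact (Commute.map (show w * _ = _ * w by ext <;> simp <;> ring) ι).inv_right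
  · rintro _ ⟨w, rfl⟩
    have k := h.rx
    rw [← conj_mul, ← conj_mul, ← conj_pow, ← conj_pow, ← conj_pow, h.ry, rz] at k
    have k1 : r * x * r⁻¹ ∈ ι.range := by
      have := (mul_mem_cancel_right (pow_mem m1 4)).1 ((mul_mem_cancel_right (pow_mem m3 2)).1 (k ▸ m2))
      rwa [← inv_mem_iff, show ((r * x * r⁻¹) ^ 4)⁻¹ = r * x * r⁻¹ from inv_eq_of_mul_eq_one_right (by
        rw [← pow_succ, conj_pow, h.x5, mul_one, mul_inv_cancel])] at this
    rw [He.eq_prod w, show (⟨0, 0, 1⟩ : He (ZMod 5)) = ⟨0, 0, 2⟩ ^ 3 by rw [He.pow_eq]; rfl]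
    simp only [map_mul, map_pow, i1, i2, i3, ← conj_mul, ← conj_pow, h.ry, rz]
    exact mul_mem (mul_mem (pow_mem k1 _) (pow_mem m1 _)) (pow_mem (pow_mem m3 _) _)
  · have e' := e.mul_left (h.yz.symm.pow_left 2).inv_left
    rw [mul_inv_cancel_right] at e'
    have e1 : y = x := by rw [← h.ry, e'.eq, mul_inv_cancel_right]
    rwa [e1, commutatorElement_self, eq_comm, inv_eq_one] at c

theorem th5 : forceB (pr eM (LM ++ IM) [5, 4, 3, 7, 4, 3]) (fun g =>
    prOK eM [s52, g] [([1, 1, 1], [0, 0, 0, 0]), ([1, 0], [0, 1])]) = true := by decide +kernel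

theorem exists_w5 : ∃ x y z r : GM, W5 x y z r ∧ z ≠ 1 := by
  obtain ⟨x, -, hx⟩ := gd_s5 s50 (by simp [s5L])
  obtain ⟨y, -, hy⟩ := gd_s5 s51 (by simp [s5L])
  obtain ⟨z, -, hz⟩ := gd_s5 s52 (by simp [s5L])
  have hL : List.Forall₂ RM (gsM ++ gsM.map (·⁻¹)) (LM ++ IM) :=
    List.rel_append valM.1 (List.forall₂_map_left_iff.2 valM.2)
  have k1 := prOK_spec lawM (.cons hx (.cons hy (.cons hz .nil))) th1
  have k2 := prOK_spec lawM (.cons hx (.cons hz (.cons (pr_spec lawM hL _) .nil))) ((forceB_eq _ _).symm.trans th2)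
  have k3 := prOK_spec lawM (.cons hx (.cons hy (.cons hz (.cons (pr_spec lawM hL _) .nil))))
    ((forceB_eq _ _).symm.trans th3)
  have k4 := canM.ne (lawM.mul hz lawM.one) (lawM.mul lawM.one lawM.one) th4
  have k5 := prOK_spec lawM (.cons hz (.cons (pr_spec lawM hL _) .nil)) ((forceB_eq _ _).symm.trans th5)
  generalize (List.map (lets (gsM ++ gsM.map (·⁻¹))) [7, 5, 5, 15, 13, 1, 2, 7, 1, 2, 7, 1]).prod = g at k2
  generalize (List.map (lets (gsM ++ gsM.map (·⁻¹))) [5, 4, 3, 7, 4, 3]).prod = s at k3 k5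
  simp only [List.forall_mem_cons, List.not_mem_nil, IsEmpty.forall_iff, implies_true, and_true, List.map_cons,
    List.map_nil, List.prod_cons, List.prod_nil, lets, List.getD_cons_succ, List.getD_cons_zero, mul_one] at k1 k2 k3 k4 k5
  obtain ⟨a1, a2, a3, a4⟩ := k1
  obtain ⟨b1, b2⟩ := k3
  have z5 : z ^ 5 = 1 := by rw [← a1]; simp only [pow_succ', pow_zero, mul_one]
  have e1 : g * x * g⁻¹ = z ^ 3 := by rw [k2]; simp only [pow_succ', pow_zero, mul_one, mul_assoc, mul_inv_cancel]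
  have x5 : (g * x * g⁻¹) ^ 5 = 1 := by rw [e1, ← pow_mul, mul_comm, pow_mul, z5, one_pow]
  exact ⟨x, y, z, s, ⟨by rwa [conj_pow, conj_eq_one_iff] at x5, z5, a2.trans (mul_assoc _ _ _).symm, a3, a4,
    by simpa only [pow_succ', pow_zero, mul_one] using k5.1, by rw [b1, mul_inv_cancel_right],
    by rw [mul_inv_eq_iff_eq_mul, ← b2]; simp only [pow_succ', pow_zero, mul_one, mul_assoc], k5.2⟩, k4⟩

end

/-- See `S0474.lean`: `G = BB`, `M4.hn_BB`, `M4.exists_BB'` (for `Th`), `M3.isB_of_short` (order: `5 ^ 6` exactly), `S1701`.  In `Th`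
(`Lib/RV/Th`) the Sylow `5`-subgroup `E = 5^{1+2}` has `N(E) = 5^{1+2}:4S₄`; `r` is an element of order `3` (it acts on `E / Z(E)`
with determinant one, so it centralizes `Z(E) = ⟨⁅a, b⁆⟩`). -/
theorem exists_B : ∃ (G : Type) (_ : Group G) (_ : Finite G) (j : Spor.HN →* G), Function.Injective j ∧ ¬ 5 ∣ j.range.index ∧
    ∃ (E : Subgroup G) (a b r : G), IsPGroup 5 E ∧ a ∈ E ∧ b ∈ E ∧ ⁅a, b⁆ ≠ 1 ∧ (∀ e ∈ E, Commute e ⁅a, b⁆) ∧ r ^ 3 = 1 ∧
      r ∈ normalizer (E : Set G) ∧ Commute r ⁅a, b⁆ ∧ ¬ Commute r a := by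
  have h := Griess.short_eW 0 none
  obtain ⟨-, s, hs, -, -, -, d, o, hd⟩ := M4.exists_Th
  have := Agent.S1700.result.1
  obtain ⟨K1, ⟨e1⟩⟩ := M4.exists_BB' (by rw [Agent.S1700.result.2]; norm_num) hs h o hd (p := 31)
    (by rw [Agent.S1700.result.2]; norm_num) (by norm_num)
  obtain ⟨K2, ⟨e2⟩⟩ := M4.hn_BB h
  obtain ⟨e, -⟩ := Th.exists_equiv
  obtain ⟨x, y, z, r, w, z1⟩ := exists_w5
  refine ⟨_, inferInstance, inferInstance, K2.subtype.comp e2.symm.toMonoidHom, K2.subtype_injective.comp e2.symm.injective, ?_,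
    (w.map (K1.subtype.comp (e.symm.trans e1.symm).toMonoidHom)).out fun k => z1
      ((injective_iff_map_eq_one (K1.subtype.comp (e.symm.trans e1.symm).toMonoidHom)).1
        (K1.subtype_injective.comp (e.symm.trans e1.symm).injective) _ k)⟩
  have c := K2.card_mul_index
  rw [(M3.isB_of_short h).2, Nat.card_congr e2.toEquiv, Agent.S1701.result.2] at c
  rw [MonoidHom.range_comp, MonoidHom.range_eq_top.2 e2.symm.surjective, ← MonoidHom.range_eq_map, range_subtype]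
  omega

end Cfsg.Lib.G2F
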