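import Cfsg.Agent.Lib.G2F.HN1
import Cfsg.Agent.Lib.Calc.HNM1
import Cfsg.Agent.Lib.RV.Th

/-!
# S5211, `q = 5`: relations between matrices of the Harada-Norton group
-/

set_option autoImplicit false
set_option maxRecDepth 1000000
set_option maxHeartbeats 0
set_option Elab.async false

namespace Cfsg.Lib.G2F.HN

open Cfsg.Lib.Calc Cfsg.Lib.F2 Cfsg.Lib.Big Cfsg.Lib.Big.HN Cfsg.Lib.RV Cfsg.Lib.Grp

/-- new letters -/
def gx {G : Type*} [Group G] (gs : List G) (ds : List (List ℕ)) : List G := ds.map fun w => (w.map (lets gs)).prod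

theorem gx_spec {G : Type*} [Group G] {E : Big.Eng} {R : G → ℕ → Prop} (hE : E.Laws R) {gs : List G} {L : List ℕ}
    (h : List.Forall₂ R gs L) (ds : List (List ℕ)) : List.Forall₂ R (gx gs ds) (ds.map (pr E L)) := by
  rw [gx, List.forall₂_map_left_iff, List.forall₂_map_right_iff, List.forall₂_same]
  exact fun w _ => pr_spec hE h w

/-- conjugates of the polycyclic generators -/
def cw (j i : ℕ) : List ℕ := ([[], [[0]], [[0], [1]], [[0], [1], [0, 0, 0, 2]], [[0], [0, 0, 0, 0, 1], [2], [3]],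
  [[0], [1], [1, 1, 2], [0, 1, 1, 1, 2, 2, 3, 2], [1, 1, 1, 1, 3, 3, 3, 2, 3, 4]]].getD j []).getD i []

/-- the power-commutator relations -/
def rlP : List (List ℕ × List ℕ) :=
  (List.range 6).flatMap fun j => ([j, j, j, j, j], []) :: (List.range j).map fun i => ([i, j], j :: cw j i)

/-- conjugates of the generators of `Q1` -/
def im (c : ℕ) : List ℕ := [[0], [3, 3, 3, 3], [4, 4, 1, 1, 0, 0, 0], [1, 1, 1, 1, 0, 0, 0, 0], [2, 2, 2, 3, 0]].getD c []

/-- further relations -/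
def rlQ : List (List ℕ × List ℕ) :=
  [([6, 0], [1, 6]), ([8, 2], [9, 8]), ([11, 10], [9, 9, 11])] ++ (List.range 5).map fun c => ([7, c], im c ++ [7])

/-- the outer automorphism -/
def pl (c : ℕ) : List ℕ := [[0], [1], [2], [3], [4], [5, 1, 1], [6, 6, 6], [7, 7, 7]].getD c []

/-- generators of the centraliser of an involution -/
def wl : List (List ℕ) := [[1, 4, 4, 1, 3], [5], [7, 5, 6, 6, 5, 1, 3, 5, 3, 5, 4, 5, 4, 5, 7, 7, 5, 6], [1, 1]]

/-- first new letters -/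
def d1 : List (List ℕ) := [[13, 13, 13, 13], [12, 12, 12, 12, 13], [9, 11, 9, 9, 9, 9], [10, 11, 11], [9, 8, 9, 9, 8], [9, 8, 8],
  [6, 5, 3, 6, 1, 3, 5, 7, 3], [4, 6, 5, 4, 2, 7, 4, 5, 7], [3, 5, 6, 4, 1, 5, 6, 3, 1], [2, 4, 7, 5, 2, 3, 7, 5, 4]] ++
  wl ++ wl.map (·.flatMap pl)

/-- second new letters -/
def d2 : List (List ℕ) := [[0], [1], [2], [3], [4], [5],
  [0, 0, 2, 0, 3, 3, 0, 0, 0, 0, 2, 0, 0, 2, 0, 3, 0, 3, 3, 3].map (· + 6),
  [1, 1, 3, 1, 3, 0, 2, 1, 2, 2, 1, 3, 3, 1, 2, 0, 3, 1, 1, 1, 1, 1].map (· + 6),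
  [1, 2, 2, 1, 1, 3, 0, 3, 3, 0, 0, 0, 2, 2, 0, 0, 3, 1, 3, 3].map (· + 6),
  vl.map (· + 9), vl.map (· + 13), [2, 1, 1, 2, 1, 2, 1, 2, 3].map (· + 9)]

theorem chk : forceL (d1.map (pr eM (L8 ++ s5))) (fun L1 => forceL (d2.map (pr eM L1)) fun L2 =>
    prOK eM L2 (rlP ++ rlQ) && !Nat.beq (eM.mul (F2.nth eM.one L2 0) eM.one) (eM.mul eM.one eM.one)) = true := by
  decide +kernel

/-- the basic letters -/
noncomputable def gs0 : List GM := gsM ++ s5.map (valR RM)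

theorem gs0_spec : List.Forall₂ RM gs0 (L8 ++ s5) := List.rel_append valM.1 (by
  rw [List.forall₂_map_left_iff, List.forall₂_same]
  exact fun C hC => let ⟨_, _, h⟩ := gd_s5 C hC; (lawM.valR h).symm ▸ h)

/-- the relations hold -/
def Rl {G : Type*} [Group G] (δ : ℕ → G) (l : List (List ℕ × List ℕ)) : Prop := ∀ t ∈ l, (t.1.map δ).prod = (t.2.map δ).prod

theorem rels_d : Rl (lets (gx (gx gs0 d1) d2)) (rlP ++ rlQ) ∧ lets (gx (gx gs0 d1) d2) 0 ≠ 1 := by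
  have h := gx_spec lawM (gx_spec lawM gs0_spec d1) d2
  have k := chk
  rw [forceL_eq, forceL_eq, Bool.and_eq_true, Bool.not_eq_true'] at k
  exact ⟨prOK_spec lawM h k.1, by
    simpa only [mul_one] using canM.ne (lawM.mul (Eng.forall₂_nth lawM.one h 0) lawM.one) (lawM.mul lawM.one lawM.one) k.2⟩

end Cfsg.Lib.G2F.HN
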