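import Cfsg.Agent.Lib.G2F.Sp5
import Cfsg.Prelude.Def_Spor_HN
import Cfsg.Agent.Lib.G2F.HN2
import Cfsg.Agent.Lib.Calc.HUO
import Cfsg.Agent.Lib.PGroup.Basic
import Cfsg.Agent.Lib.Inv.Basic

/-!
# S5211, `q = 5`: the Harada-Norton group (computation in the model `Lib.Big.HN.GM` over `F₅`).
-/

set_option autoImplicit false
set_option maxRecDepth 100000

namespace Cfsg.Lib.G2F

open Subgroup U

namespace HN

open Cfsg.Lib.Calc Cfsg.Lib.Calc.HN Cfsg.Lib.Big Cfsg.Lib.Big.HN Cfsg.Lib.Big.HU Cfsg.Lib.T2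

variable {G G' : Type*} [Group G] [Group G']

/-- the generators -/
def ul : ℕ → U5 := lets [x0 1, x2 1, x1 1, x11 1, x10 1, x3 1]

theorem prod_mem {K : Subgroup G} {γ : ℕ → G} {w : List ℕ} (h : ∀ c ∈ w, γ c ∈ K) : (w.map γ).prod ∈ K :=
  list_prod_mem (List.forall_mem_map.2 h)

theorem map_pr (f : G →* G') {γ : ℕ → G} {δ : ℕ → G'} {w : List ℕ} (h : ∀ c ∈ w, f (γ c) = δ c) :
    f (w.map γ).prod = (w.map δ).prod := by
  rw [map_list_prod, List.map_map]; exact congrArg _ (List.map_congr_left h)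

theorem five {γ : ℕ → G} (h : Rl γ rlP) {n : ℕ} (hn : n < 6) : γ n ^ 5 = 1 := by
  simpa only [List.map_cons, List.map_nil, List.prod_cons, List.prod_nil, pow_succ', pow_zero] using
    h _ (List.mem_flatMap.2 ⟨n, List.mem_range.2 hn, List.mem_cons_self⟩)

theorem pc_le [Finite G] {γ : ℕ → G} (h : Rl γ rlP) (n : ℕ) (hn : n ≤ 6) :
    Nat.card (closure (γ '' Set.Iio n)) ≤ 5 ^ n := by
  induction n with
  | zero => simp
  | succ n ih =>
    have m : ∀ c < n, γ c ∈ closure (γ '' Set.Iio n) := fun c hc => subset_closure ⟨c, hc, rfl⟩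
    refine (card_le_of_le (K := zpowers (γ n) ⊔ closure (γ '' Set.Iio n)) ((closure_le _).2 ?_)).trans
      ((card_sup_le (p := 5) (by decide) (five h hn ▸ one_mem _) fun x hx => ?_).trans
        (pow_succ' 5 n ▸ Nat.mul_le_mul_left _ (ih (by omega))))
    · rintro _ ⟨c, hc, rfl⟩
      rcases Nat.lt_succ_iff_lt_or_eq.1 hc with k | rfl
      exacts [mem_sup_right (m c k), mem_sup_left (mem_zpowers _)]
    · have : closure (γ '' Set.Iio n) ≤ (closure (γ '' Set.Iio n)).comap (MulAut.conj (γ n)⁻¹).toMonoidHom := (closure_le _).2 (by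
        rintro _ ⟨c, hc, rfl⟩
        have e := h _ (List.mem_flatMap.2 ⟨n, List.mem_range.2 hn,
          List.mem_cons_of_mem _ (List.mem_map_of_mem (List.mem_range.2 hc))⟩)
        simp only [List.map_cons, List.map_nil, List.prod_cons, List.prod_nil, mul_one] at e
        change (γ n)⁻¹ * γ c * (γ n)⁻¹⁻¹ ∈ Subgroup.closure _
        rw [inv_inv, mul_assoc, e, inv_mul_cancel_left]
        exact prod_mem fun d hd => m d ((by decide : ∀ n < 6, ∀ c < n, ∀ d ∈ cw n c, d < n) n hn c hc d hd))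
      simpa using this hx

theorem ul_pow : ∀ l : ZMod 5, x0 l = ul 0 ^ l.val ∧ x2 l = ul 1 ^ l.val ∧ x1 l = ul 2 ^ l.val ∧ x11 l = ul 3 ^ l.val ∧
    x10 l = ul 4 ^ l.val ∧ x3 l = ul 5 ^ l.val := by decide +kernel

theorem q1_le {K : Subgroup U5} (h : ∀ c < 5, ul c ∈ K) : Q1 (ZMod 5) ≤ K := fun a ha => by
  rw [nf a, show a.σ = 0 from ha, x3_zero, mul_one, (ul_pow _).1, (ul_pow _).2.1, (ul_pow _).2.2.1, (ul_pow _).2.2.2.1,
    (ul_pow _).2.2.2.2.1]
  exact mul_mem (mul_mem (mul_mem (mul_mem (pow_mem (h 2 (by decide)) _) (pow_mem (h 3 (by decide)) _)) (pow_mem (h 4 (by decide)) _))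
    (pow_mem (h 1 (by decide)) _)) (pow_mem (h 0 (by decide)) _)

theorem exists_iota [Finite G] {δ : ℕ → G} (h : Rl δ rlP) :
    ∃ ι : U5 →* G, ∀ c < 6, ι (ul c) = δ c := by
  let K := closure ((fun c => (ul c, δ c)) '' Set.Iio 6)
  have m : ∀ c < 6, (ul c, δ c) ∈ K := fun c hc => subset_closure ⟨c, hc, rfl⟩
  have p1 : ∀ w : List ℕ, (w.map fun c => (ul c, δ c)).prod.1 = (w.map ul).prod := fun w => map_pr (MonoidHom.fst U5 G) fun _ _ => rfl
  have p2 : ∀ w : List ℕ, (w.map fun c => (ul c, δ c)).prod.2 = (w.map δ).prod := fun w => map_pr (MonoidHom.snd U5 G) fun _ _ => rfl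
  have k : Nat.card K ≤ 5 ^ 6 := pc_le (fun t ht => Prod.ext (by
    rw [p1, p1, (by decide +kernel : ∀ t ∈ rlP, (t.1.map ul).prod = (t.2.map ul).prod) t ht]) (by rw [p2, p2, h t ht])) 6 le_rfl
  let f := (MonoidHom.fst U5 G).comp K.subtype
  have r : ∀ c < 6, ul c ∈ f.range := fun c hc => ⟨⟨_, m c hc⟩, rfl⟩
  have s : Function.Surjective f := fun a => by
    change a ∈ f.range
    rw [← inv_mul_cancel_right a (x3 a.σ)]
    exact mul_mem (q1_le (fun c hc => r c (by omega)) (show _ = _ by simp [x3])) ((ul_pow _).2.2.2.2.2 ▸ pow_mem (r 5 (by decide)) _)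
  let e := MulEquiv.ofBijective f (s.bijective_of_nat_card_le (by rwa [U.card, Nat.card_zmod]))
  exact ⟨((MonoidHom.snd U5 G).comp K.subtype).comp e.symm.toMonoidHom, fun c hc =>
    congrArg (fun a : K => a.1.2) (e.symm_apply_eq.2 rfl : e.symm (ul c) = ⟨_, m c hc⟩)⟩

theorem fin [Finite G] {δ : ℕ → G} (h : Rl δ (rlP ++ rlQ)) (z1 : δ 0 ≠ 1)
    (hc : Nat.card G = 273030912000000) (n : δ 9 ^ 5 = 1 → ¬ IsConj (δ 9) (δ 9 ^ 2)) {φ : MulAut G} (hφ : φ (δ 9) = δ 10) :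
    ∃ ι : U5 →* G, Em5 ι ∧ ¬ IsConj (ι (x1 1)) (ι (x1 2)) ∧ ∃ σ : MulAut G, IsConj (σ (ι (x1 1))) (ι (x1 2)) := by
  have hP := fun t ht => h t (List.mem_append_left _ ht)
  have hQ := fun t ht => h t (List.mem_append_right _ ht)
  obtain ⟨ι, hι⟩ := exists_iota hP
  have : Six (ZMod 5) := ⟨by decide, by decide⟩
  have i : Function.Injective ι := (MonoidHom.ker_eq_bot_iff ι).1 (by_contra fun k => by
    obtain ⟨x, a, b, c⟩ := PGroup.exists_mem_center_orderOf_eq (pgroup 5) ι.ker k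
    have e := eq_x0 (mem_Z1_of fun y _ => commutatorElement_eq_one_iff_mul_comm.2 (mem_center_iff.1 b y))
    obtain e' | ⟨m, e'⟩ := (by decide +kernel : ∀ l : ZMod 5, x0 l = 1 ∨ ∃ m : Fin 5, ul 0 = x0 l ^ m.1) x.z
    · rw [e, e', orderOf_one] at c; cases c
    · exact z1 (by rw [← hι 0 (by decide), e', ← e]; exact pow_mem a _))
  have e1 := hQ _ (List.mem_append_left _ List.mem_cons_self)
  have e2 := hQ _ (List.mem_append_left _ (List.mem_cons_of_mem _ List.mem_cons_self))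
  have e3 := hQ _ (List.mem_append_left _ (List.mem_cons_of_mem _ (List.mem_cons_of_mem _ List.mem_cons_self)))
  have e4 : ∀ c < 5, δ 7 * ι (ul c) * (δ 7)⁻¹ = ι ((im c).map ul).prod := fun c hc => by
    have e := hQ _ (List.mem_append_right _ (List.mem_map_of_mem (List.mem_range.2 hc)))
    simp only [List.map_cons, List.map_nil, List.prod_cons, List.prod_nil, mul_one, List.map_append, List.prod_append] at e
    rw [hι c (by omega), e, mul_inv_cancel_right,
      map_pr ι fun d hd => hι d ((by decide : ∀ c < 5, ∀ d ∈ im c, d < 6) c hc d hd)]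
  simp only [List.map_cons, List.map_nil, List.prod_cons, List.prod_nil, mul_one] at e1 e2 e3
  have nq : ∀ x ∈ Q1 (ZMod 5), ∃ y ∈ Q1 (ZMod 5), δ 7 * ι x * (δ 7)⁻¹ = ι y := fun x hx =>
    let ⟨y, a, b⟩ := q1_le (K := (((Q1 (ZMod 5)).map ι).comap (MulAut.conj (δ 7)).toMonoidHom).comap ι) (fun c hc =>
      ⟨_, (by decide +kernel : ∀ c < 5, ((im c).map ul).prod.σ = 0) c hc, (e4 c hc).symm⟩) hx
    ⟨y, a, b.symm⟩
  have w : ((im 1).map ul).prod ∉ W (ZMod 5) := fun k => absurd k.2.2 (by decide +kernel)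
  have v1 : ι (x1 1) = δ 2 := hι 2 (by decide)
  have v2 : ι (x1 2) = δ 2 ^ 2 := by rw [(ul_pow 2).2.2.1, map_pow, hι 2 (by decide)]; rfl
  have c1 : IsConj (δ 2) (δ 9) := isConj_iff.2 ⟨δ 8, by rw [e2, mul_inv_cancel_right]⟩
  have c2 : IsConj (δ 2 ^ 2) (δ 9 ^ 2) := c1.pow 2
  refine ⟨ι, ⟨i, ?_, ⟨δ 6, x2 1, fun k => absurd k.2.2.2.2 (by decide), ?_⟩, ⟨_, nq, _, x2_mem 1, _, fun k => w (Z2_W k), e4 1 (by decide)⟩,
    ⟨_, nq, _, Z2_W (x2_mem 1), _, w, e4 1 (by decide)⟩⟩, ?_, φ, ?_⟩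
  · have c := ι.range.card_mul_index
    rw [hc, ← Nat.card_congr (MonoidHom.ofInjective i).toEquiv, U.card, Nat.card_zmod] at c
    omega
  · rw [show ι (x0 1) = δ 0 from hι 0 (by decide), show ι (x2 1) = δ 1 from hι 1 (by decide), e1, mul_inv_cancel_right]
  · rw [v1, v2]
    exact fun k => n (by obtain ⟨g, e⟩ := isConj_iff.1 c1; rw [← e, conj_pow, five hP (by decide), mul_one, mul_inv_cancel])
      (c1.symm.trans (k.trans c2))
  · rw [v1, v2]
    refine (φ.toMonoidHom.map_isConj c1).trans (IsConj.trans (isConj_iff.2 ⟨δ 11, ?_⟩) c2.symm)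
    change _ * φ _ * _ = _
    rw [hφ, e3, ← mul_assoc, mul_inv_cancel_right, sq]

theorem tr (e : G' ≃* G) (h : ∃ ι : U5 →* G, Em5 ι ∧ ¬ IsConj (ι (x1 1)) (ι (x1 2)) ∧ ∃ σ : MulAut G, IsConj (σ (ι (x1 1))) (ι (x1 2))) :
    ∃ ι : U5 →* G', Em5 ι ∧ ¬ IsConj (ι (x1 1)) (ι (x1 2)) ∧ ∃ σ : MulAut G', IsConj (σ (ι (x1 1))) (ι (x1 2)) := by
  obtain ⟨ι, h1, h2, σ, h3⟩ := h
  have m : ∀ {g x y}, g * ι x * g⁻¹ = ι y → e.symm g * e.symm (ι x) * (e.symm g)⁻¹ = e.symm (ι y) := fun k => by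
    rw [← k, map_mul, map_mul, map_inv]
  refine ⟨e.symm.toMonoidHom.comp ι, ⟨e.symm.injective.comp h1.inj, ?_, ?_, ?_, ?_⟩, fun k => h2 ?_, e.trans (σ.trans e.symm), ?_⟩
  · rw [MonoidHom.range_comp, index_map_of_bijective e.symm.bijective]; exact h1.syl
  · exact let ⟨_, y, a, b⟩ := h1.wc; ⟨_, y, a, m b⟩
  · exact let ⟨_, a, x, b, y, c, d⟩ := h1.n2; ⟨_, fun x hx => let ⟨y, p, q⟩ := a x hx; ⟨y, p, m q⟩, x, b, y, c, m d⟩
  · exact let ⟨_, a, x, b, y, c, d⟩ := h1.n3; ⟨_, fun x hx => let ⟨y, p, q⟩ := a x hx; ⟨y, p, m q⟩, x, b, y, c, m d⟩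
  · simpa using e.toMonoidHom.map_isConj k
  · simpa using e.symm.toMonoidHom.map_isConj h3

variable [Finite G] [IsSimpleGroup G] {γ δ : ℕ → G} {κ : G}

theorem nc (h : Cf2 γ κ) {v : G} (hv : v = (wd vl).ev (eta γ κ)) (v5 : v ^ 5 = 1) : ¬ IsConj v (v ^ 2) := by
  have z2 := h.z2
  have oz := h.oz
  have cz := h.cz
  have m := h.main.1
  have t1 := he_ok.transferM h.bar2 ev1
  have t2 := he_ok.transferM h.bar2 ev2
  generalize γ 4 * γ 5 = z at z2 oz cz m t1 t2
  have e1 : ∀ x, x * z = z * x → x * v = v ^ 2 * x → False := fun x a b => impsM_iff.1 (t1 x (m x a))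
    (List.forall_mem_cons.2 ⟨.inl (by rwa [ev_pow, ← hv]), List.forall_mem_singleton.2 (.inl (by
      rw [ev_pow, ev_pow, ← hv]; exact (SemiconjBy.pow_right b 2).trans (by rw [← pow_mul])))⟩) trivial
  have e2 : ∀ x, x * z = z * x → x * v = v * x → x * x = 1 → x = 1 ∨ x = z := fun x a b c => by
    refine (impsM_iff.1 (t2 x (m x a)) (List.forall_mem_cons.2 ⟨.inl (hv ▸ b), List.forall_mem_singleton.2 (.inl (by
      rw [ev_pow, ← hv]; exact SemiconjBy.pow_right b 2))⟩) (.inl c)).elim id fun k => absurd ?_ h.r7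
    obtain ⟨g, k1, k2⟩ := orCj_ex (H := centralizer {z})
      (upd_forall (P := fun _ x => x ∈ centralizer {z}) cz (mem_centralizer_singleton_iff.2 a)) k
    have := (k2.conj (mem_centralizer_singleton_iff.1 k1)).sq z2 (mem_centralizer_singleton_iff.1 (cz 7)).symm
    change g⁻¹ * x * g * (g⁻¹ * x * g) = eta γ κ 7 * eta γ κ 7 at this
    rw [← this, show g⁻¹ * x * g * (g⁻¹ * x * g) = g⁻¹ * (x * x) * g by group, c, mul_one, inv_mul_cancel]
  have zv : z * v = v * z := hv ▸ (mem_centralizer_singleton_iff.1 (ev_mem_of_forall cz _)).symm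
  intro k
  obtain ⟨g, e⟩ := isConj_iff.1 k
  have b : g * z * g⁻¹ * v = v * (g * z * g⁻¹) := by
    have : Commute (g * z * g⁻¹) (v ^ 2) := e ▸ (Commute.map zv (MulAut.conj g) :)
    have := this.pow_right 3
    rwa [← pow_mul, pow_succ, v5, one_mul] at this
  let a : centralizer ({v} : Set G) := ⟨z, mem_centralizer_singleton_iff.2 zv⟩
  let a' : centralizer ({v} : Set G) := ⟨_, mem_centralizer_singleton_iff.2 b⟩
  have a2 : a' * a' = 1 := Subtype.ext (show _ * _ = (1 : G) by rw [conj_mul, z2, mul_one, mul_inv_cancel])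
  by_cases j : IsConj a' a
  · obtain ⟨c, j⟩ := isConj_iff.1 j
    have j1 : c * (g * z * g⁻¹) * (c : G)⁻¹ = z := congrArg Subtype.val j
    have j2 : Commute (c : G) v := mem_centralizer_singleton_iff.1 c.2
    refine e1 (c * g) (by conv_rhs => rw [← j1]
                          group) ?_
    rw [← mul_assoc, ← (j2.pow_right 2).eq, ← e]; group
  · obtain ⟨w, -, w1, w2, w3⟩ := Inv.exists_commute_of_not_isConj a2 (Subtype.ext z2) j
    have ww : w * w = 1 := by rw [← sq, ← w1, pow_orderOf_eq_one]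
    rcases e2 w (congrArg Subtype.val w3.eq) (mem_centralizer_singleton_iff.1 w.2) (congrArg Subtype.val ww) with f | f
    · rw [show w = 1 from Subtype.ext f, orderOf_one] at w1; cases w1
    · obtain rfl : w = a := Subtype.ext f
      rcases e2 _ (congrArg Subtype.val w2.eq).symm b (congrArg Subtype.val a2) with f | f
      · rw [conj_eq_one_iff.1 f, orderOf_one] at oz; cases oz
      · exact j (by rw [show a' = a from Subtype.ext f])

theorem phi (h : Cfg γ) (hL : Lab δ iv) (hr : ∀ t ∈ rels, t.ev δ = 1) (hγ : ∀ c, γ c = (labW labs c).ev δ)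
    (b : ∀ t ∈ [W.pow (.mul (.mul (.l 5) (labW labs 4)) (.pow (.l 6) 3)) 3], t.ev δ = 1) {σ : Spor.HN ≃* G}
    (hσ : ∀ c, σ (gam c) = δ c) : ∃ φ : MulAut G, ∀ c < 8, φ (δ c) = ((pl c).map δ).prod := by
  have e1 : δ 1 = (γ 1) := (hγ 1).symm
  have e3 : δ 3 = (γ 2) := (hγ 2).symm
  have b4 : ((γ 3) * (γ 4) * δ 6 ^ 3) ^ 3 = 1 := by rw [hγ, hγ]; exact b _ List.mem_cons_self
  have h0 : γ 0 = 1 := h.q (.l 0) gH_zero
  have r : ∀ t ∈ labRels labsF ivH ++ relsH.map (W.subst labsF), t.ev γ = 1 := fun t ht =>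
    (reqW h.q (List.all_eq_true.1 relF t ht)).trans h0
  obtain ⟨b1, b2, b3⟩ := phi_aux hr
  rw [e1] at b2
  rw [e3] at b3
  obtain ⟨ρ, r1, r2⟩ := exists_homHN (γ := newLet γ labsF) (Lab.newLet h0 (by decide) fun t ht => r t (List.mem_append_left _ ht))
    (rels_newLet fun t ht => r t (List.mem_append_right _ ht)) b1 b2 b3 b4
  have k : ∀ c, (ρ.comp σ.symm.toMonoidHom) (δ c) = ρ (gam c) := fun c => hσ c ▸ congrArg ρ (σ.symm_apply_apply _)
  have k1 : (ρ.comp σ.symm.toMonoidHom) (δ 1) = δ 1 := (k 1).trans ((r1 1 (by decide)).trans e1.symm)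
  have k3 : (ρ.comp σ.symm.toMonoidHom) (δ 3) = δ 3 := (k 3).trans ((r1 3 (by decide)).trans e3.symm)
  have k5 : (ρ.comp σ.symm.toMonoidHom) (δ 5) = δ 5 * (δ 1 * δ 1) :=
    (k 5).trans ((r1 5 (by decide)).trans (congrArg₂ (· * ·) (hγ 3) (hγ 4)))
  have k6 := (k 6).trans r2
  generalize ρ.comp σ.symm.toMonoidHom = f at k1 k3 k5 k6
  have hi : Function.Injective f := (MonoidHom.ker_eq_bot_iff _).1
    ((MonoidHom.normal_ker _).eq_bot_or_eq_top.resolve_right fun e =>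
      h.ne (x := (γ 1)) (y := 1) (by decide +kernel) ((k1.trans e1).symm.trans (e.ge (mem_top _))))
  have i2 : δ 2 = (δ 1)⁻¹ := eq_inv_of_mul_eq_one_left (hL.inv 1)
  have i4 : δ 4 = (δ 3)⁻¹ := eq_inv_of_mul_eq_one_left (hL.inv 3)
  have i7 : δ 7 = (δ 6)⁻¹ := eq_inv_of_mul_eq_one_left (hL.inv 6)
  refine ⟨MulEquiv.ofBijective _ (Finite.injective_iff_bijective.1 hi), fun c hc => ?_⟩
  change f _ = _
  interval_cases c <;> simp [pl, hL.zero, i2, i4, i7, k1, k3, k5, k6, pow_succ', mul_assoc]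

omit [Finite G] [IsSimpleGroup G] in
theorem map_flat {φ : G →* G} (h : ∀ c < 8, φ (δ c) = ((pl c).map δ).prod) {w : List ℕ} (hw : ∀ c ∈ w, c < 8) :
    φ (w.map δ).prod = ((w.flatMap pl).map δ).prod := by
  induction w with
  | nil => exact map_one φ
  | cons c w ih =>
    rw [List.map_cons, List.prod_cons, map_mul, List.flatMap_cons, List.map_append, List.prod_append, h c (hw c List.mem_cons_self),
      ih fun d hd => hw d (List.mem_cons_of_mem _ hd)]

omit [Finite G] [IsSimpleGroup G] in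
theorem link {gs l : List G} (n : gs.length = 8) (h0 : lets gs 0 = 1) (hγ : ∀ c, γ c = (labW labs c).ev (lets gs))
    {φ : G →* G} (h : ∀ c < 8, φ (lets gs c) = ((pl c).map (lets gs)).prod) :
    lets (gx (gx (gs ++ l) d1) d2) 9 = (wd vl).ev (eta γ ((labW labsE 3).ev (lets gs))) ∧
      φ (lets (gx (gx (gs ++ l) d1) d2) 9) = lets (gx (gx (gs ++ l) d1) d2) 10 := by
  have a : ∀ {w : List ℕ}, (∀ c ∈ w, c < 8) → (w.map (lets (gs ++ l))).prod = (w.map (lets gs)).prod := fun hw =>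
    congrArg _ (List.map_congr_left fun c hc => lets_append _ (n ▸ hw c hc))
  have v : ∀ c ∈ vl, c = 1 ∨ c = 2 ∨ c = 3 ∨ c = 4 := by decide
  constructor
  · rw [ev_wd _ rfl]
    refine congrArg List.prod ((List.map_map ..).trans (List.map_congr_left fun c hc => ?_))
    rcases v c hc with rfl | rfl | rfl | rfl
    exacts [(a (by decide)).trans ((hγ 25).trans (ev_wd _ h0 [1, 4, 4, 1, 3])).symm, (a (by decide)).trans ((hγ 3).trans (ev_wd _ h0 [5])).symm,
      (a (by decide)).trans (ev_wd _ h0 _).symm, (a (by decide)).trans ((hγ 4).trans (ev_wd _ h0 [1, 1])).symm]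
  · change φ ((vl.map (· + 9)).map _).prod = ((vl.map (· + 13)).map _).prod
    rw [List.map_map, List.map_map]
    refine map_pr φ fun c hc => ?_
    rcases v c hc with rfl | rfl | rfl | rfl <;>
      exact (congrArg φ (a (by decide))).trans ((map_flat h (by decide)).trans (a (by decide)).symm)

end HN

/-- Find words `A, T, S, V, C, Z` (images of `x3 1, x10 1, x11 1, x1 1, x2 1, x0 1`) in a Sylow `5`-subgroup `5^{1+4}:5` with the
power-commutator relations of `U5` (all six have order `5`; `U.nf`), get `ι` by von Dyck (the presented group has at most `5 ^ 6`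
elements and maps onto `U5`); `ι` is injective as `Z ≠ 1` generates the centre; `S1701` for `syl`.  `wc`: an element of
`N(5²) = 5^{2+1+2}.4.A₅`; `n2`, `n3`: one element of `2^{1+4} ≤ N(Q1)`.  `x1 1`, `x1 2` are in the classes `5C`, `5D`
(centralizer `5³:SL₂(5)`): their traces over `F₅` differ; the outer automorphism (`HU.exists_sigma`) swaps the classes. -/
theorem exists_HN : ∃ ι : U5 →* Spor.HN, Em5 ι ∧ ¬ IsConj (ι (x1 1)) (ι (x1 2)) ∧
    ∃ σ : MulAut Spor.HN, IsConj (σ (ι (x1 1))) (ι (x1 2)) := by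
  obtain ⟨e, he⟩ := Big.HU.exists_sigma
  obtain ⟨φ, hφ⟩ := HN.phi Big.HU.cfgM Big.HN.labM Big.HN.relM Big.HU.gM_eq (Big.HN.valM.rels Big.HN.lawM Big.HU.phi_rel) he
  have k := HN.link (l := Big.HN.s5.map (Big.valR Big.HN.RM)) (φ := φ.toMonoidHom) rfl Big.HN.labM.zero Big.HU.gM_eq hφ
  have r := HN.rels_d
  have c := Big.HU.cf2M
  rw [HN.gs0] at r
  rw [Big.HU.kM] at c
  exact HN.tr (G := Big.HN.GM) (G' := Spor.HN) e (HN.fin r.1 r.2 Big.HN.isHN_GM.2 (HN.nc c k.1) k.2)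

end Cfsg.Lib.G2F
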