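import Cfsg.Agent.Lib.Calc.HUO
import Cfsg.Agent.Lib.Transfer.SylowIn

/-!
# S5211, `q = 5`: an automorphism of the Harada-Norton group that centralizes a Sylow `5`-subgroup is inner.
-/

set_option autoImplicit false
set_option maxRecDepth 100000

namespace Cfsg.Lib.G2F.HO

open Cfsg.Lib.Calc Cfsg.Lib.Calc.HN Cfsg.Lib.Big Cfsg.Lib.Big.HN Cfsg.Lib.Big.HU Cfsg.Lib.T2 Cfsg.Lib.Transfer Subgroup

variable {G : Type*} [Group G] {γ : ℕ → G}

/-- The fixed points. -/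
def fx (τ : MulAut G) : Subgroup G := τ.toMonoidHom.eqLocus (MonoidHom.id G)
theorem mem_fx {τ : MulAut G} {x : G} : x ∈ fx τ ↔ τ x = x := Iff.rfl
/-- Conjugation by an inner automorphism. -/
def cg (g : G) (τ : MulAut G) : MulAut G := (MulAut.conj g)⁻¹ * τ * MulAut.conj g
theorem mem_cg {g x : G} {τ : MulAut G} : x ∈ fx (cg g τ) ↔ g * x * g⁻¹ ∈ fx τ := (MulAut.conj g).symm_apply_eq
theorem index_cg (g : G) (τ : MulAut G) : (fx (cg g τ)).index = (fx τ).index := by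
  rw [show fx (cg g τ) = (fx τ).comap (MulAut.conj g).toMonoidHom from Subgroup.ext fun _ => mem_cg]
  exact index_comap_of_surjective _ (MulAut.conj g).surjective
theorem cg_sq (g : G) {τ : MulAut G} (h : τ * τ = 1) : cg g τ * cg g τ = 1 := by
  rw [cg, ← inv_inv (MulAut.conj g), inv_inv (MulAut.conj g)⁻¹, conj_mul, h, mul_one, mul_inv_cancel]
theorem cg_one {g : G} {τ : MulAut G} (h : cg g τ = 1) : τ = 1 := by
  rwa [cg, ← inv_inv (MulAut.conj g), inv_inv (MulAut.conj g)⁻¹, conj_eq_one_iff] at h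

/-- No involution of `Aut G` centralizes a Sylow `5`-subgroup. -/
def NoInv (G : Type*) [Group G] : Prop := ∀ τ : MulAut G, τ * τ = 1 → ¬ 5 ∣ (fx τ).index → τ = 1

theorem fix_inv [Finite G] {τ : MulAut G} (τ2 : τ * τ = 1) {u : G} (u2 : u * u = 1) (u1 : u ≠ 1) {X : Subgroup G} (hu : u ∈ X)
    (hv : τ u ∈ X) (h : ∀ c ∈ X, c * u = u * c → c * c = 1 → M1 u c) : ∃ c ∈ X, c * u * c⁻¹ ∈ fx τ := by
  have m := mul_mem hu hv
  have v2 : τ u * τ u = 1 := by rw [← map_mul, u2, map_one]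
  have e1 : τ (u * τ u) = (u * τ u)⁻¹ := by
    rw [map_mul, ← MulAut.mul_apply, τ2, MulAut.one_apply, mul_inv_rev, inv_eq_of_mul_eq_one_right u2, inv_eq_of_mul_eq_one_right v2]
  have e2 : SemiconjBy u (u * τ u) (u * τ u)⁻¹ := by
    rw [SemiconjBy, mul_inv_rev, inv_eq_of_mul_eq_one_right u2, inv_eq_of_mul_eq_one_right v2, ← mul_assoc, u2, mul_assoc, u2,
      one_mul, mul_one]
  have e3 : τ u = u * (u * τ u) := by rw [← mul_assoc, u2, one_mul]
  have e4 : u * τ u ≠ u := fun c => u1 ((map_eq_one_iff τ τ.injective).1 (mul_eq_left.1 c))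
  generalize u * τ u = w at m e1 e2 e3 e4
  obtain ⟨j, e | e⟩ := Nat.even_or_odd' (orderOf w)
  · have o := orderOf_pos w
    have a : w ^ j * w ^ j = 1 := by rw [← pow_add, ← two_mul, ← e, pow_orderOf_eq_one]
    have b : w ^ j ≠ 1 := pow_ne_one_of_lt_orderOf (by omega) (by omega)
    have c := (h _ (pow_mem m j) (by rw [(e2.pow_right j).eq, inv_pow, inv_eq_of_mul_eq_one_right a]) a).resolve_left b
    have d : w * u = u * w := c ▸ ((Commute.refl w).pow_right j).eq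
    rcases h w m d (mul_eq_one_iff_eq_inv.2 (mul_right_cancel (d.trans e2.eq))) with c | c
    · rw [c, one_pow] at b; exact (b rfl).elim
    · exact (e4 c).elim
  · refine ⟨w ^ (-(j ^ 2 : ℤ)), zpow_mem m _, mem_fx.2 ?_⟩
    have k : ∀ i : ℤ, u * w ^ i = w ^ (-i) * u := fun i => by rw [(e2.zpow_right i).eq, inv_zpow']
    rw [map_mul, map_mul, map_inv, map_zpow, e1, e3, ← zpow_neg, inv_zpow', inv_zpow', ← zpow_neg, mul_assoc, mul_assoc, mul_assoc,
      ← zpow_one_add, k, k, ← mul_assoc, ← mul_assoc, ← zpow_add, ← zpow_add, mul_left_inj, zpow_eq_zpow_iff_modEq, e]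
    exact (Int.modEq_iff_dvd.2 ⟨1 - 2 * j, by push_cast; ring⟩)

theorem c5_ev : hp.eval (.all 0 100 [(.l 18, .l 18), (.mul (.l 23) (.inv (.l 18)), .mul (.l 23) (.inv (.l 18)))]
    (.one (.pow (.l 100) 5))) = true := by decide +kernel

theorem c5 (h : Cfg γ) {a : G} (h1 : a * γ 4 = γ 4 * a) (h2 : a * γ 18 = γ 18 * a) (h3 : a * γ 23 = γ 23 * a) (a2 : M1 (γ 4) (a * a)) :
    M1 (γ 4) a := by
  have k : ∀ a ∈ genW γ (hp.ws 0), Md (γ 4) (a * γ 18) (γ 18 * a) → Md (γ 4) (a * (γ 23 * (γ 18)⁻¹)) (γ 23 * (γ 18)⁻¹ * a) →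
      M1 (γ 4) (a ^ 5) := hp_ok.transferM h.bar c5_ev
  have := k a (h.mem0.2 h1) (.inl h2) (.inl (comm_mul h3.symm (comm_inv h2.symm)).symm)
  rwa [show a ^ 5 = a * a * (a * a) * a by simp only [pow_succ, pow_zero, one_mul, mul_assoc],
    show a * a * (a * a) = 1 by rcases a2 with e | e <;> rw [e]; exacts [one_mul _, h.s2], one_mul] at this

variable [Finite G] [IsSimpleGroup G]

theorem inv_eq_one {ι : H →* G} (hi : Function.Injective ι) (hγ : ∀ c, ι (gH c) = γ c) (h : Cfg γ)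
    (hmax : ∀ S : Subgroup G, ι.range ≤ S → S ≤ ι.range ∨ S = ⊤) (h5 : 5 ∣ ι.range.index) {φ : MulAut G} (f1 : φ (γ 1) = γ 1)
    (f2 : φ (γ 2) = γ 2) (f3 : φ (γ 3) = γ 3 * γ 4) (f4 : φ * φ ≠ 1) : NoInv G := by
  intro τ τ2 hτ
  have : Fact (Nat.Prime 5) := ⟨by norm_num⟩
  have hr : ι.range = centralizer {γ 4} := by
    rw [← h.cen, MonoidHom.range_eq_map, ← topH', map_genW, funext hγ]
  have cr : ∀ a, ι a * γ 4 = γ 4 * ι a := fun a => mem_centralizer_singleton_iff.1 (hr.le ⟨a, rfl⟩)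
  have pg : ∀ x : G, x ^ 5 = 1 → IsPGroup 5 (zpowers x) := fun x hx => by
    rintro ⟨_, n, rfl⟩
    exact ⟨1, Subtype.ext (by simp only [pow_one, coe_pow, coe_one]; rw [← zpow_natCast, zpow_comm, zpow_natCast, hx, one_zpow])⟩
  obtain ⟨g, -, hg⟩ := exists_conj_le_of_not_dvd_relIndex' (T := fx τ) (H := ⊤) (Q := zpowers (γ 18) ⊔ zpowers (γ 23))
    (by rwa [relIndex_top_right]) ((pg _ (h.eq (by decide +kernel))).to_sup_of_normal_left' (pg _ (h.eq (by decide +kernel)))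
      (zpowers_le.2 (centralizer_le_normalizer _ fun x hx => (comm_zpowers (h.eq (by decide +kernel)) hx)))) le_top
  refine cg_one (g := g) ?_
  have a1 := mem_cg.2 (conj_le_iff.1 hg _ (mem_sup_left (mem_zpowers _)))
  have a2 := mem_cg.2 (conj_le_iff.1 hg _ (mem_sup_right (mem_zpowers _)))
  replace τ2 := cg_sq g τ2
  rw [← index_cg g] at hτ
  generalize cg g τ = τ at a1 a2 τ2 hτ
  have mX : ∀ {x : G}, x ∈ centralizer {γ 18} ⊓ centralizer {γ 23} ↔ x * γ 18 = γ 18 * x ∧ x * γ 23 = γ 23 * x :=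
    and_congr mem_centralizer_singleton_iff mem_centralizer_singleton_iff
  have tr : ∀ {τ : MulAut G} {x y : G}, τ y = y → x * y = y * x → τ x * y = y * τ x := fun e f => by rw [← e, ← map_mul, f, map_mul]
  obtain ⟨c, c1, a3⟩ := fix_inv τ2 h.s2 h.s1 (mX.2 ⟨(h.cs _).symm, (h.cs _).symm⟩)
    (mX.2 ⟨tr a1 (h.cs _).symm, tr a2 (h.cs _).symm⟩) fun c m e f => c5 h e (mX.1 m).1 (mX.1 m).2 (.inl f)
  refine cg_one (g := c) ?_
  rw [← cj_of_comm (mX.1 c1).1, ← mem_cg] at a1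
  rw [← cj_of_comm (mX.1 c1).2, ← mem_cg] at a2
  rw [← mem_cg] at a3
  replace τ2 := cg_sq c τ2
  rw [← index_cg c] at hτ
  generalize cg c τ = τ at a1 a2 a3 τ2 hτ
  obtain ⟨a, ha⟩ := aut_cen idx0 aut_M0 hi τ fun a => hr.ge (mem_centralizer_singleton_iff.2 (tr a3 (cr a)))
  have mi : ∀ {a}, M1 (gH 4) a → M1 (γ 4) (ι a) := fun e => e.imp (fun e => by rw [e, map_one]) fun e => by rw [e, hγ]
  have b : ∀ c, parW (· != 5) (labW labs c) = true → τ (γ c) = γ c → ι a * γ c = γ c * ι a := fun c e f =>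
    comm_of_cj (by have := ha _ ((mem_M0 c).2 e); rw [hγ, f] at this; exact this.symm)
  have := c5 h (cr a) (b 18 (by decide +kernel) a1) (b 23 (by decide +kernel) a2) (map_mul ι a a ▸ mi (cen_M0 fun m hm => hi (by
    have := ha _ (normal0.conj_mem m hm a)
    rw [map_mul ι, map_mul ι, map_inv, ← ha m hm, ← MulAut.mul_apply, τ2, MulAut.one_apply, ha m hm, cj_cj] at this
    rw [map_mul, map_mul ι m, map_mul, comm_of_cj this.symm])))
  replace ha : ∀ m ∈ M0, τ (ι m) = ι m := fun m hm => (ha m hm).trans (cj_of_comm (by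
    rcases this with e | e <;> rw [e]
    exacts [(one_mul _).trans (mul_one _).symm, (cr m).symm]))
  have fc : ∀ c, parW (· != 5) (labW labs c) = true → τ (γ c) = γ c := fun c e => hγ c ▸ ha _ ((mem_M0 c).2 e)
  obtain ⟨d, hd⟩ : (γ 3)⁻¹ * τ (γ 3) ∈ ι.range := hr.ge (mem_centralizer_singleton_iff.2 (comm_mul (comm_inv (h.cs 3)) (tr a3 (h.cs 3))))
  have := mi (cen_M0 (a := d) fun m hm => hi (by
    have := ha _ (normal0.conj_mem _ hm (gH 3))
    rw [map_mul ι, map_mul ι, map_inv, hγ, map_mul, map_mul, map_inv, ha m hm] at this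
    rw [map_mul, map_mul, hd]
    exact comm_of_cj (by rw [← cj_cj, this, cj_back])))
  rw [hd] at this
  rcases this with e | e
  · rcases hmax (fx τ) (fun x hx => h.fix_all (fc 1 (by decide +kernel)) (fc 2 (by decide +kernel)) (inv_mul_eq_one.1 e).symm
      (mem_centralizer_singleton_iff.1 (hr.le hx))) with c | c
    · exact (hτ (h5.trans (index_dvd_of_le c))).elim
    · exact MulEquiv.ext fun a => c.ge (mem_top a)
  · have b1 : (φ⁻¹ * τ) (γ 1) = γ 1 := φ.symm_apply_eq.2 ((fc 1 (by decide +kernel)).trans f1.symm)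
    have b2 : (φ⁻¹ * τ) (γ 2) = γ 2 := φ.symm_apply_eq.2 ((fc 2 (by decide +kernel)).trans f2.symm)
    have b3 : (φ⁻¹ * τ) (γ 3) = γ 3 := φ.symm_apply_eq.2 ((inv_mul_eq_iff_eq_mul.1 e).trans f3.symm)
    obtain ⟨k, hk⟩ := h.inn_of_fix (hr ▸ hmax) b1 b2 b3
    have q : ∀ x, x * γ 4 = γ 4 * x → k * x = x * k := fun x hx => comm_of_cj (by
      rw [← MulAut.conj_apply, hk]; exact h.fix_all b1 b2 b3 hx)
    obtain ⟨l, rfl⟩ : k ∈ ι.range := hr.ge (mem_centralizer_singleton_iff.2 (q _ rfl))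
    have m := mi (cen_M0 (a := l) fun m _ => hi (by rw [map_mul, map_mul, q _ (cr m)]))
    have p : φ (ι l) = ι l ∧ ι l * ι l = 1 := by
      rcases m with e | e <;> rw [e]
      · simp
      · exact ⟨by rw [← (h.eq (by decide +kernel) : γ 1 * γ 1 = γ 4), map_mul, f1], h.s2⟩
    refine (f4 ?_).elim
    rw [← τ2, eq_inv_mul_iff_mul_eq.1 hk |>.symm, mul_assoc, ← mul_assoc _ φ,
      show MulAut.conj (ι l) * φ = φ * MulAut.conj (ι l) from MulEquiv.ext fun x => by simp [p.1], mul_assoc, ← map_mul, p.2, map_one, mul_one]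

theorem exists_phi4 {δ : ℕ → G} (h : Cfg γ) (hr : ∀ t ∈ rels, t.ev δ = 1) (hγ : ∀ c, γ c = (labW labs c).ev δ)
    (b : ∀ t ∈ [W.pow (.mul (.mul (.l 5) (labW labs 4)) (.pow (.l 6) 3)) 3], t.ev δ = 1) {σ : Spor.HN ≃* G}
    (hσ : ∀ c, σ (gam c) = δ c) : ∃ φ : MulAut G, φ (γ 1) = γ 1 ∧ φ (γ 2) = γ 2 ∧ φ (γ 3) = γ 3 * γ 4 ∧ φ * φ ≠ 1 := by
  have e1 : δ 1 = γ 1 := (hγ 1).symm
  have e3 : δ 3 = γ 2 := (hγ 2).symm
  have s1 := (hσ 1).trans e1
  have s3 := (hσ 3).trans e3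
  have s5 : σ (gam 5) = γ 3 := (hσ 5).trans (hγ 3).symm
  have b4 : (γ 3 * γ 4 * δ 6 ^ 3) ^ 3 = 1 := by rw [hγ, hγ]; exact b _ List.mem_cons_self
  have h0 : γ 0 = 1 := h.q (.l 0) gH_zero
  have r : ∀ t ∈ labRels labsF ivH ++ relsH.map (W.subst labsF), t.ev γ = 1 := fun t ht =>
    (reqW h.q (List.all_eq_true.1 relF t ht)).trans h0
  obtain ⟨b1, b2, b3⟩ := phi_aux hr
  rw [e1] at b2
  rw [e3] at b3
  obtain ⟨ρ, r1, r2⟩ := exists_homHN (γ := newLet γ labsF) (Lab.newLet h0 (by decide) fun t ht => r t (List.mem_append_left _ ht))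
    (rels_newLet fun t ht => r t (List.mem_append_right _ ht)) b1 b2 b3 b4
  have k : ∀ {c a}, σ (gam c) = a → c < 6 → (ρ.comp σ.symm.toMonoidHom) a = newLet γ labsF c := fun e hc =>
    e ▸ (congrArg ρ (σ.symm_apply_apply _)).trans (r1 _ hc)
  have hi : Function.Injective (ρ.comp σ.symm.toMonoidHom) := (MonoidHom.ker_eq_bot_iff _).1
    ((MonoidHom.normal_ker _).eq_bot_or_eq_top.resolve_right fun e =>
      h.ne (x := γ 1) (y := 1) (by decide +kernel) ((k s1 (by decide)).symm.trans (e.ge (mem_top _))))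
  refine ⟨MulEquiv.ofBijective _ (Finite.injective_iff_bijective.1 hi), k s1 (by decide), k s3 (by decide), k s5 (by decide), fun e => ?_⟩
  have k6 : (ρ.comp σ.symm.toMonoidHom) (δ 6) = δ 6 ^ 3 := hσ 6 ▸ (congrArg ρ (σ.symm_apply_apply _)).trans (hσ 6 ▸ r2)
  have e' : (ρ.comp σ.symm.toMonoidHom) ((ρ.comp σ.symm.toMonoidHom) (δ 6)) = δ 6 := DFunLike.congr_fun e (δ 6)
  rw [k6, map_pow, k6, ← pow_mul, show 3 * 3 = 8 + 1 from rfl, pow_succ, mul_eq_right] at e'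
  rw [eq_one_of_coprime (by norm_num) e' (hr rels[10] (List.getElem_mem _) : δ 6 ^ 5 = 1), one_pow, mul_one] at b4
  exact h.toPre.nm1 (s := .l 3) (by decide +kernel) (.inr (mul_eq_one_iff_eq_inv.1 (eq_one_of_coprime (m := 3) (n := 2) (by norm_num) b4
    (h.eq (by decide +kernel))) |>.trans (inv_eq_of_mul_eq_one_right h.s2)))

omit [Finite G] [IsSimpleGroup G]

theorem five_dvd {ι : H →* G} (hi : Function.Injective ι) (h : 273030912000000 ∣ Nat.card G) : 5 ∣ ι.range.index := by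
  rw [← ι.range.card_mul_index, ← Nat.card_congr (MonoidHom.ofInjective hi).toEquiv, cardH] at h
  omega

theorem inn_aux {G' : Type*} [Group G'] [Finite G'] (h1 : NoInv G') (e : G ≃* G')
    (h2 : (Inn G).index = 2) {σ : MulAut G} {S : Subgroup G} (hS : ¬ 5 ∣ S.index) (h : ∀ x ∈ S, σ x = x) : σ ∈ Inn G := by
  have k : ∀ τ : MulAut G, τ * τ = 1 → (∀ x ∈ S, τ x = x) → τ = 1 := fun τ a b => (MulAut.congr e).injective (by
    refine (h1 _ (by rw [← map_mul, a, map_one]) fun c => hS ?_).trans (map_one _).symm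
    rw [← index_map_equiv S e]
    exact c.trans (index_dvd_of_le (by rintro _ ⟨x, m, rfl⟩; exact mem_fx.2 (by simp [b x m]))))
  have := Finite.of_equiv _ e.symm.toEquiv
  obtain ⟨j, o | o⟩ := Nat.even_or_odd' (orderOf σ)
  · have p := orderOf_pos σ
    refine (pow_ne_one_of_lt_orderOf (x := σ) (n := j) (by omega) (by omega) (k _ (by rw [← pow_add, ← two_mul, ← o, pow_orderOf_eq_one])
      fun x hx => ?_)).elim
    clear o
    induction j with
    | zero => rfl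
    | succ j ih => rw [pow_succ, MulAut.mul_apply, h x hx, ih]
  · have := pow_mem (sq_mem_of_index_two h2 σ) (j + 1)
    rwa [← pow_mul, show 2 * (j + 1) = orderOf σ + 1 by omega, pow_succ, pow_orderOf_eq_one, one_mul] at this

theorem inv_GM : NoInv GM := by
  obtain ⟨e, he⟩ := exists_sigma
  obtain ⟨φ, f1, f2, f3, f4⟩ := exists_phi4 cfgM relM gM_eq (valM.rels lawM phi_rel) he
  exact inv_eq_one (γ := gM) injM (fun _ => rfl) cfgM (fun _ => maxM) (five_dvd injM dvdM) f1 f2 f3 f4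

/-- An automorphism of `HN` that centralizes a Sylow `5`-subgroup is inner. -/
theorem inn_of_fix5 {σ : MulAut Spor.HN} {S : Subgroup Spor.HN} (hS : ¬ 5 ∣ S.index) (h : ∀ x ∈ S, σ x = x) : σ ∈ Inn Spor.HN := by
  obtain ⟨e, -⟩ := exists_sigma
  exact inn_aux inv_GM e out_HN hS h

end Cfsg.Lib.G2F.HO
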