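import Cfsg.Agent.Lib.G2F.Sp5
import Cfsg.Prelude.Def_G2
import Cfsg.Agent.Lib.LyU.Out
import Cfsg.Agent.Lib.Oct.Chev

/-!
# S5211, `q = 5`: the Lyons group contains `G₂(5)`; elements of order `5` of an involution centralizer.
-/

set_option autoImplicit false

namespace Cfsg.Lib.G2F

open Subgroup Equiv Cfsg.Lib.Fusion

theorem five_cycle {x a : Perm (Fin 11)} (hx : orderOf x = 5) (ha : orderOf a = 3) (c : Commute a x) : x.cycleType = {5} := by
  obtain ⟨n, e⟩ := Perm.cycleType_prime_order (σ := x) (hx ▸ Nat.prime_five)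
  have h := x.sum_cycleType_le
  rw [hx] at e
  rw [e, Multiset.sum_replicate, Fintype.card_fin, smul_eq_mul] at h
  obtain rfl | rfl : n = 0 ∨ n = 1 := by omega
  · exact e
  · have d := orderOf_dvd_natCard (⟨a, mem_centralizer_singleton_iff.2 c⟩ : centralizer {x})
    rw [← orderOf_coe, Perm.nat_card_centralizer, e] at d
    exact absurd (ha ▸ d) (by decide)

theorem dbl_five {H : Type*} [Group H] {π : H →* Perm (Fin 11)} {t : H} (D : Dbl π t) {x y a b : H} (hx : orderOf x = 5)
    (hy : orderOf y = 5) (ha : orderOf a = 3) (hb : orderOf b = 3) (c : Commute a x) (c' : Commute b y) : IsConj x y := by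
  have o : ∀ {u : H} {p : ℕ}, p.Prime → Odd p → orderOf u = p → orderOf (π u) = p := fun {u p} hp h2 h => by
    have := Fact.mk hp
    have e : u ^ p = 1 := h ▸ pow_orderOf_eq_one u
    refine orderOf_eq_prime (by rw [← map_pow, e, map_one]) fun k => ?_
    rcases (D.ker u).1 k with rfl | rfl
    · exact hp.ne_one (h.symm.trans orderOf_one)
    · exact D.ne ((D.t_pow_odd h2).symm.trans e)
  have e1 := five_cycle (o Nat.prime_five (by decide) hx) (o Nat.prime_three (by decide) ha) (c.map π)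
  have e2 := five_cycle (o Nat.prime_five (by decide) hy) (o Nat.prime_three (by decide) hb) (c'.map π)
  obtain ⟨g, e⟩ := isConj_iff.1 (alternatingGroup.isConj_of (σ := ⟨π x, D.even x⟩) (τ := ⟨π y, D.even y⟩)
    (Perm.isConj_of_cycleType_eq (e1.trans e2.symm)) (by rw [← Perm.sum_cycleType, e1]; decide))
  obtain ⟨k, hk⟩ := D.surj g g.2
  refine isConj_iff.2 ⟨k, (D.eq_or (by rw [map_mul, map_mul, map_inv, hk]; exact congrArg Subtype.val e)).resolve_right fun h => D.ne ?_⟩
  have := congrArg (· ^ 5) h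
  simp only [conj_pow, D.mul_t_pow, D.t_pow_odd (by decide : Odd 5)] at this
  rw [← hy, pow_orderOf_eq_one, hy, ← hx, pow_orderOf_eq_one, mul_one, mul_inv_cancel, one_mul] at this
  exact this.symm

/-- `G = Spor.Ly`: `S1702` (order `2^8 3^7 5^6 7 11 31 37 67`), `S1710` + `Oct.nonempty_chev_equiv` + `Mult.chevCongr`, `Oct.card_G2`.
`S0454` + `S1660`: some involution `t₀` has `C(t₀) = 2.A₁₁`.  All involutions are conjugate to `t₀` (search the library: `DblAlt`,
`S1660`, `S0452`; or `Z*`: `t₀` is not isolated, and the other involutions of `2.A₁₁` lie over the class `2⁴` and form one class).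
So let `C = C(t) = 2.A₁₁`, `π : C → A₁₁`.  `π x` has order `5` and commutes with `π a` of order `3`, so it is a `5`-cycle (the centralizer
of an element of type `5²` in `S₁₁` has order `50`); so is `π y`; `5`-cycles are conjugate in `A₁₁`; `g x g⁻¹ ∈ {y, y t}` has order `5`. -/
theorem exists_Ly : ∃ (G : Type) (_ : Group G) (_ : Finite G) (j : Lie.G2 (ZMod 5) →* G), Function.Injective j ∧
    ¬ 5 ∣ j.range.index ∧ ¬ 2 ^ 9 ∣ Nat.card G ∧ ∀ t x y a b : G, orderOf t = 2 → orderOf x = 5 → orderOf y = 5 →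
      orderOf a = 3 → orderOf b = 3 → Commute t x → Commute t y → Commute t a → Commute t b → Commute a x → Commute b y →
        IsConj x y := by
  obtain ⟨ι, h⟩ := Ly.solM
  obtain ⟨hs, hc⟩ := Ly.isLy_GM
  obtain ⟨z, hz, hd⟩ : ∃ t : Ly.GM, orderOf t = 2 ∧
    IsNonsplitDoubleCover (centralizer {t}) (alternatingGroup (Fin 11)) := ⟨_, Ly.doubleT⟩
  have : Finite Ly.GM := Nat.finite_of_card_ne_zero (by rw [hc]; norm_num)
  let e := (Ly.equivH.some.trans Oct.nonempty_chev_equiv.some).symm
  refine ⟨Ly.GM, inferInstance, inferInstance, ι.comp e.toMonoidHom, h.inj.comp e.injective, ?_, by rw [hc]; norm_num,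
    fun t x y a b ht hx hy ha hb c1 c2 c3 c4 c5 c6 => ?_⟩
  · rw [MonoidHom.range_comp, MonoidHom.range_eq_top.2 e.surjective, ← MonoidHom.range_eq_map, (h.exact Ly.dvdM).1]
    norm_num
  obtain ⟨π, D⟩ := exists_dbl hd (MulEquiv.refl _) (t := ⟨z, mem_centralizer_singleton_iff.2 rfl⟩) (mem_center_iff.2 fun g =>
    Subtype.ext (mem_centralizer_singleton_iff.1 g.2)) fun e => by
      rw [show z = 1 from congrArg Subtype.val e, orderOf_one] at hz; omega
  obtain ⟨g, rfl⟩ := LyU.conj_z D (x := t) (by rw [← sq, ← ht, pow_orderOf_eq_one]) fun e => by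
    rw [e, orderOf_one] at ht; omega
  let f : ∀ u, Commute t u → centralizer {g * t * g⁻¹} := fun u c =>
    ⟨MulAut.conj g u, mem_centralizer_singleton_iff.2 (c.symm.map (MulAut.conj g))⟩
  have o : ∀ u c, orderOf (f u c) = orderOf u := fun u c => (orderOf_coe _).symm.trans ((MulAut.conj g).orderOf_eq u)
  have k := (Subgroup.subtype _).map_isConj (dbl_five D ((o x c1).trans hx) ((o y c2).trans hy) ((o a c3).trans ha) ((o b c4).trans hb)
    (Subtype.ext (c5.map (MulAut.conj g))) (Subtype.ext (c6.map (MulAut.conj g))))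
  exact (isConj_iff.2 ⟨g, rfl⟩).trans (k.trans (isConj_iff.2 ⟨g, rfl⟩).symm)

end Cfsg.Lib.G2F
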