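import Cfsg.Agent.Lib.Calc.HUE

/-!
# S5211, `q = 5`: an element of order five in `2^8.(A₅ × A₅).2`
-/

set_option autoImplicit false
set_option maxRecDepth 1000000
set_option maxHeartbeats 0
set_option Elab.async false

namespace Cfsg.Lib.G2F.HN

open Cfsg.Lib.Calc Cfsg.Lib.Big.HU Cfsg.Lib.T2 Cfsg.Lib.Grp
open Cfsg.Lib.Golay (force_eq)

theorem exB_cons {n w b : ℕ} {B T : List ℕ} {L : List (ℕ × List ℕ)} {env : ℕ → ℕ} {ps : List (W × W)} {P : ℕ → Bool} :
    exB n w B ((b, T) :: L) env ps P = true ↔ ∃ c ∈ T, exB n w B ((b, [c]) :: L) env ps P = true := by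
  simp only [exB, forceL_eq, force_eq, anyCh, anyL_iff, List.mem_singleton, exists_eq_left]

/-- a part of a search -/
noncomputable def part (P : PM) (ps : List (W × W)) (φ : Fm) (k j : ℕ) : Bool :=
  exB P.n P.w ((P.Ls 0).map Prod.fst) ((((P.Ls 0).headD (0, [])).1, (((P.Ls 0).headD (0, [])).2.drop (k * j)).take k) :: (P.Ls 0).tail)
    P.env ps fun d => bnot (φ.eval P.n P.w ((P.Ls 0).map Prod.fst) P.Ls (upd P.env 100 d))

theorem all_of_parts {P : PM} {ps : List (W × W)} {φ : Fm} {m k : ℕ} (hk : 0 < k) (h0 : 0 < (P.Ls 0).length)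
    (h1 : ((P.Ls 0).headD (0, [])).2.length ≤ k * m) (h : ∀ j < m, part P ps φ k j = false) : P.eval (.all 0 100 ps φ) = true := by
  change bnot (exB P.n P.w ((P.Ls 0).map Prod.fst) (P.Ls 0) P.env ps
    fun d => bnot (φ.eval P.n P.w ((P.Ls 0).map Prod.fst) P.Ls (upd P.env 100 d))) = true
  unfold part at h
  generalize (P.Ls 0).map Prod.fst = B at h ⊢
  generalize P.Ls 0 = L at h0 h1 h ⊢
  obtain _ | ⟨⟨b, T⟩, L⟩ := L
  · cases h0
  refine bnot_iff.2 fun e => ?_
  obtain ⟨c, hc, e⟩ := exB_cons.1 e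
  obtain ⟨i, hi, rfl⟩ := List.getElem_of_mem hc
  have a := Nat.div_add_mod i k
  have b := Nat.mod_lt i hk
  refine Bool.noConfusion ((h (i / k) (Nat.div_lt_of_lt_mul (hi.trans_le h1))).symm.trans (exB_cons.2 ⟨_, ?_, e⟩))
  refine List.mem_iff_getElem.2 ⟨i % k, by simp only [List.headD_cons, List.length_take, List.length_drop]; omega, ?_⟩
  simp only [List.headD_cons, List.getElem_take, List.getElem_drop, a]

/-- the element -/
def vl : List ℕ := [1, 1, 1, 3, 1, 1, 3, 1, 4, 3, 1, 2, 3]

/-- conjugating the element to its square -/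
def p1 : List (W × W) := [(wd vl, .pow (wd vl) 2), (.pow (wd vl) 2, .pow (wd vl) 4)]
/-- centralising the element -/
def p2 : List (W × W) := [(wd vl, wd vl), (.pow (wd vl) 2, .pow (wd vl) 2)]

/-- conjugating elements -/
def cl : List W := [wd [1, 1, 1, 3, 4], wd [1, 1, 2, 3], wd [1, 2, 1, 2, 1, 2, 1, 3], wd [3, 2, 1, 1, 1, 3], wd [3, 1, 1, 1, 3, 2],
  wd [3, 1, 4], wd [2, 1, 1, 2, 3, 1], wd [3, 1, 3, 1, 3, 3, 4], wd [1, 1, 2, 3, 2, 1], wd [3, 1, 1, 2, 4], wd [1, 2, 1, 1, 4],
  wd [1, 3, 1, 3], wd [2, 3, 3, 1, 3, 1], wd [1, 2, 3, 1, 3, 3], wd [2, 1, 1, 2, 1, 2]]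

/-- involutions -/
def f2 : Fm := .imp (.one (.mul (.l 100) (.l 100))) (.or (.one (.l 100)) (orCj 100 (.l 7) cl))

theorem ev1_0 : part he p1 (.not .tt) 10 0 = false := by decide +kernel
theorem ev1_1 : part he p1 (.not .tt) 10 1 = false := by decide +kernel
theorem ev1_2 : part he p1 (.not .tt) 10 2 = false := by decide +kernel
theorem ev1_3 : part he p1 (.not .tt) 10 3 = false := by decide +kernel
theorem ev1_4 : part he p1 (.not .tt) 10 4 = false := by decide +kernel
theorem ev1_5 : part he p1 (.not .tt) 10 5 = false := by decide +kernel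
theorem ev1_6 : part he p1 (.not .tt) 10 6 = false := by decide +kernel
theorem ev1_7 : part he p1 (.not .tt) 10 7 = false := by decide +kernel
theorem ev1_8 : part he p1 (.not .tt) 10 8 = false := by decide +kernel
theorem ev1_9 : part he p1 (.not .tt) 10 9 = false := by decide +kernel
theorem ev1_10 : part he p1 (.not .tt) 10 10 = false := by decide +kernel
theorem ev1_11 : part he p1 (.not .tt) 10 11 = false := by decide +kernel

theorem ev1 : he.eval (.all 0 100 p1 (.not .tt)) = true :=
  all_of_parts (m := 12) (k := 10) (by decide) (by decide +kernel) (by decide +kernel) fun j hj => by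
    interval_cases j
    exacts [ev1_0, ev1_1, ev1_2, ev1_3, ev1_4, ev1_5, ev1_6, ev1_7, ev1_8, ev1_9, ev1_10, ev1_11]

theorem ev2_0 : part he p2 f2 10 0 = false := by decide +kernel
theorem ev2_1 : part he p2 f2 10 1 = false := by decide +kernel
theorem ev2_2 : part he p2 f2 10 2 = false := by decide +kernel
theorem ev2_3 : part he p2 f2 10 3 = false := by decide +kernel
theorem ev2_4 : part he p2 f2 10 4 = false := by decide +kernel
theorem ev2_5 : part he p2 f2 10 5 = false := by decide +kernel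
theorem ev2_6 : part he p2 f2 10 6 = false := by decide +kernel
theorem ev2_7 : part he p2 f2 10 7 = false := by decide +kernel
theorem ev2_8 : part he p2 f2 10 8 = false := by decide +kernel
theorem ev2_9 : part he p2 f2 10 9 = false := by decide +kernel
theorem ev2_10 : part he p2 f2 10 10 = false := by decide +kernel
theorem ev2_11 : part he p2 f2 10 11 = false := by decide +kernel

theorem ev2 : he.eval (.all 0 100 p2 f2) = true :=
  all_of_parts (m := 12) (k := 10) (by decide) (by decide +kernel) (by decide +kernel) fun j hj => by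
    interval_cases j
    exacts [ev2_0, ev2_1, ev2_2, ev2_3, ev2_4, ev2_5, ev2_6, ev2_7, ev2_8, ev2_9, ev2_10, ev2_11]

end Cfsg.Lib.G2F.HN
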