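import Cfsg.Agent.Lib.G2F.QA
import Cfsg.Agent.Lib.Oct.Chev
import Cfsg.Agent.Lib.Calc.Chain

/-!
# S5211, `q = 2`: the realizing groups `G₂(3)`, its subgroups `U₃(3):2` and `2³·L₃(2)`, and `M₁₂`
-/

set_option autoImplicit false
set_option maxRecDepth 100000

namespace Cfsg.Lib.G2F.Tq

open Subgroup Cfsg.Lib.Fusion Cfsg.Lib.FR Cfsg.Lib.Calc Matrix Cfsg.Lie

attribute [local irreducible] M.instMul M.instInv

section
variable {G : Type} [Group G] {e : M →* G} {g : G}

theorem pull [Finite G] (hz : e zz ≠ 1) (H : Subgroup G) (he : ∀ x, e x ∈ H) (ho : ¬ 128 ∣ Nat.card H) :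
    ∃ F : FM, Sat F 2 ∧ F.IsRealizable 2 ∧ ∀ P f, Mor F P f ↔ ∃ g ∈ H, ∀ x ∈ P, g * e x * g⁻¹ = e (f x) := by
  have i : Function.Injective (e.codRestrict H he) := inj_of fun h => hz (congrArg Subtype.val h)
  obtain ⟨F, a, b, c⟩ := exists_pull pg_M i (Nat.odd_iff.2 (Nat.two_dvd_ne_zero.1 fun h => ho (by
    rw [← (e.codRestrict H he).range.card_mul_index, ← Nat.card_congr (MonoidHom.ofInjective i).toEquiv, card_M]
    exact mul_dvd_mul_left 64 h)))
  exact ⟨F, a, b, fun P f => (c P f).trans ⟨fun ⟨g, h⟩ => ⟨g, g.2, fun x hx => congrArg Subtype.val (h x hx)⟩,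
    fun ⟨g, hg, h⟩ => ⟨⟨g, hg⟩, fun x hx => Subtype.ext (h x hx)⟩⟩⟩

/-- Value of a word. -/
def W (γ : Fin 7 → G) (u : List (Fin 7)) : G := (u.map γ).prod
/-- The word of an element. -/
def wx (x : M) : List (Fin 7) :=
  .replicate x.i.val 0 ++ .replicate x.j.val 1 ++ (bif x.k then [2] else []) ++ (bif x.l then [3] else [])
/-- `n` conjugates `x` to `y`. -/
def cw (n : List (Fin 7)) (x y : M) : List (Fin 7) × List (Fin 7) := (n ++ wx x, wx y ++ n)

variable {γ : Fin 7 → G} {C : List (Fin 7) × List (Fin 7) → Prop} (hC : ∀ p, C p → W γ p.1 = W γ p.2)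

theorem W_wx (x : M) : W γ (wx x) = ev (γ 0) (γ 1) (γ 2) (γ 3) x := by
  obtain ⟨_, _, k, l⟩ := x
  cases k <;> cases l <;> simp [W, wx, ev, mul_assoc]
theorem ev_mem {H : Subgroup G} (h : ∀ i < 4, γ i ∈ H) (x : M) : ev (γ 0) (γ 1) (γ 2) (γ 3) x ∈ H := by
  have := h 2 (by decide)
  have := h 3 (by decide)
  refine mul_mem (mul_mem (mul_mem (pow_mem (h 0 (by decide)) _) (pow_mem (h 1 (by decide)) _)) ?_) ?_
  · cases x.k <;> simp [*]
  · cases x.l <;> simp [*]

include hC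
theorem rel_of (h : ∀ p ∈ [([0, 0, 0, 0], []), ([3, 3], []), ([3, 0], [1, 3]), ([0, 1], [1, 0]), ([2, 2], []),
    ([2, 3], [3, 2]), ([0, 2, 0], [2])], C p) : Rel (γ 0) (γ 1) (γ 2) (γ 3) := by
  simpa [W, Rel, mul_assoc] using fun p hp => hC p (h p hp)
variable (r : Rel (γ 0) (γ 1) (γ 2) (γ 3)) {n : List (Fin 7)}
theorem cw_eq {x y : M} (h : C (cw n x y)) : W γ n * lift r x * (W γ n)⁻¹ = lift r y := by
  have := hC _ h
  rw [mul_inv_eq_iff_eq_mul, lift_apply, lift_apply, ← W_wx, ← W_wx]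
  simpa only [W, cw, List.map_append, List.prod_append] using this
theorem cj2 (h : C (cw n aa bb) ∧ C (cw n bb (aa * bb)⁻¹) ∧ C (cw n rr rr)) :
    ∀ x ∈ Q2, W γ n * lift r x * (W γ n)⁻¹ = lift r (ρ x) := fun x hx => by
  rw [ev_Q2 ((homOn_hom Q2 (lift r)).comp (homOn_conj ⊤ (W γ n)) fun _ _ => trivial) hx, ρ_eq x hx, map_ev, map_one,
    cw_eq hC r h.1, cw_eq hC r h.2.1, cw_eq hC r h.2.2]
theorem cj1 (v : ZMod 3 × ZMod 3) (h : C (cw n (t1 0) (t1 v.1)) ∧ C (cw n (t1 1) (t1 (v.1 + 1))) ∧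
    C (cw n (t2 0) (t2 v.2)) ∧ C (cw n (t2 1) (t2 (v.2 + 1)))) :
    ∀ x ∈ Q1, W γ n * lift r x * (W γ n)⁻¹ = lift r (st v x) := fun x hx => by
  rw [e4_Q1 ((homOn_hom Q1 (lift r)).comp (homOn_conj ⊤ (W γ n)) fun _ _ => trivial) hx, st, map_e4,
    cw_eq hC r h.1, cw_eq hC r h.2.1, cw_eq hC r h.2.2.1, cw_eq hC r h.2.2.2]
end

/-! ### `M₁₂` -/

def q12_C : ℕ := (nat_lit 0x9378ba056214093218b7a645827b93106a547689ba4523018a79b6542031748b9a65321095b784a6321090b872316a541720398ba64508321b794a568679b54a32107189b0236a543b012798a645b39781026a54063b9a542871392106b4a785a2785634901b56a329b471081a2036548b979701b6a4258376812a54b039205836947b1a39170a6485b2815b2a3490762a36b9548170b83296a41570b21536847a90268139a475b0b57a16249830196783a4b52025ba7914368073692184ba50152ab374896091635724b8a0a98b362457106b285394a71036789a24b5106a7b25849310a3582b7469103b5679842a10952b7a346810a69352847b10b32a97845610358a6b9472109b73a864521079a5b384621083675ab49210563b8974a210a7b695348210685937a4b210ba9876543210)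
noncomputable def q12_code : ℕ → ℕ := get (nat_lit 48) q12_C
def q12_R0 : ℕ := (nat_lit 0xe24060000127252010000000e4a40200000440b900400000700000000000110dafc1000001c0be281800001833bd03000009000000000000502e401000001819de81800005000000000000486d840800000f02e281000000e05c50200000390e650400000886d7e0800000e00d3408000021426f8200000427f65040000024feca08000016439941000002419de81800004c36bf0400000b043520600001702e2810000005427082000004c0b900400000b000000000001600000000000253fb3020000050000000000008000000000000702e401000002819de81800003000000000000a211d80800000005b380c00002c0b6701800000aab0c0400000402f8a0600000a05b380c00001800000000000280000000000070000000000000423b01000001419de8180000227f66040000051e66e0800000d02e281000002800000000000340b900400000200000000000040cef40c00000c8476020000011c94804000006000000000001502e401000000c000000000000033bd030000023929608000002a1384100000113fb302000002c0b900400000000000000000060cef40c0000055586020000024365204000005000000000000902e4010000004000000000000833bd03000000)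
def q12_D0 : ℕ := (nat_lit 0x3a304ca0b5128b70b000000008402000000004902000000004402000000004102000000000e02000000002902000000002502000000002302000000000000000000000000000000000000000000000000000000000000000000000000)
noncomputable def q12_L0 : Lv :=
  ⟨(nat_lit 45), (nat_lit 51), (nat_lit 4), (nat_lit 12), (nat_lit 4), get (nat_lit 14) (nat_lit 0xa806801a406601c406c01c8040009c06501ac07001),
    fun l x => get (nat_lit 51) q12_R0 (Nat.add (Nat.mul x (nat_lit 6)) (Nat.sub l (nat_lit 45))), get (nat_lit 48) q12_D0⟩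
def q12_R1 : ℕ := (nat_lit 0x10c04000000000000000030000000000290d40c00002002c0200000726c0300000202e8100000556c80c000004000000000103c6030000001e201800004c9500c0000140fe040000080000000000a0000000000100000000002418c0400000e10d020000060000000000300000000001c0000000000200000000004)
def q12_D1 : ℕ := (nat_lit 0xedb3a83800194240007e04000280200012010000600800016040000002000008100000c0800000000000000)
noncomputable def q12_L1 : Lv :=
  ⟨(nat_lit 35), (nat_lit 37), (nat_lit 0), (nat_lit 11), (nat_lit 0), get (nat_lit 14) (nat_lit 0x22017405e0184060016c063017c05c019004000),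
    fun l x => get (nat_lit 45) q12_R1 (Nat.add (Nat.mul x (nat_lit 2)) (Nat.sub l (nat_lit 35))), get (nat_lit 29) q12_D1⟩
def q12_R2 : ℕ := (nat_lit 0x304080000268010000044d020000065804000004000000000800000000261020000018004000013000800001f281000003ff020000040e0200000600000000200000000030000000000e804000000000000000c000000002f402000005)
def q12_D2 : ℕ := (nat_lit 0x95ea4a855e2a80b5cc3400000008004000000030020000000120100000000600800000001e040000000090200000000181000000000c080000000000000000000000)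
noncomputable def q12_L2 : Lv :=
  ⟨(nat_lit 25), (nat_lit 27), (nat_lit 1), (nat_lit 10), (nat_lit 0), get (nat_lit 13) (nat_lit 0x2e03101c00d007403201980d806a02000),
    fun l x => get (nat_lit 39) q12_R2 (Nat.add (Nat.mul x (nat_lit 2)) (Nat.sub l (nat_lit 25))), get (nat_lit 45) q12_D2⟩
def q12_R3 : ℕ := (nat_lit 0x80800003800000003c0200000c0000000200000000280000000060200001180400001780800000f010000028020000060000000058080000000000000640200000400000001c00000002101000004)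
def q12_D3 : ℕ := (nat_lit 0x277505016c10039020090080180200400800902000c080030200000000000)
noncomputable def q12_L3 : Lv :=
  ⟨(nat_lit 15), (nat_lit 17), (nat_lit 2), (nat_lit 9), (nat_lit 0), get (nat_lit 13) (nat_lit 0x901580b005403001400b805a02000),
    fun l x => get (nat_lit 35) q12_R3 (Nat.add (Nat.mul x (nat_lit 2)) (Nat.sub l (nat_lit 15))), get (nat_lit 22) q12_D3⟩
noncomputable def q12_L4 : Lv :=
  ⟨(nat_lit 6), (nat_lit 8), (nat_lit 3), (nat_lit 8), (nat_lit 0), get (nat_lit 11) (nat_lit 0x202c0600a01e0340700800),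
    fun l x => get (nat_lit 3) (nat_lit 23059416992409) (Nat.add (Nat.mul x (nat_lit 2)) (Nat.sub l (nat_lit 6))), get (nat_lit 12) (nat_lit 0xc02b02102302302000000)⟩
noncomputable def q12_lvs : List Lv := [q12_L0, q12_L1, q12_L2, q12_L3, q12_L4]

theorem q12_ok : chainOK (apT (nat_lit 12) (nat_lit 4) q12_code) (imgT (nat_lit 4)) q12_code (idc (nat_lit 12) (nat_lit 4)) (nat_lit 12) q12_lvs = true := by
  decide +kernel

theorem q12_eng {G X : Type*} [Group G] [MulAction G X] {pt : ℕ → X} (hf : Faithful G 12 pt) :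
    Eng (G := G) (Rep 12 4 pt) (idc (nat_lit 12) (nat_lit 4)) q12_code (apT (nat_lit 12) (nat_lit 4) q12_code) (topC q12_lvs) :=
  eng_perm (by decide) (by decide) hf _ _

/-- order 95040, base [4, 0, 1, 2, 3], orbit lengths [12, 11, 10, 9, 8] -/
theorem q12_chain {G X : Type*} [Group G] [MulAction G X] {pt : ℕ → X} (hi : Inj 12 pt) (hf : Faithful G 12 pt)
    {gs : List G} (h : List.Forall₂ (Rep 12 4 pt) gs [128142939599376, 152255354642481, 130333907690241, 143467259914836, 10110767703621, 162146726273556]) :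
    Chain (Rep 12 4 pt) q12_code pt q12_lvs (Subgroup.closure {s | s ∈ gs}) :=
  (q12_eng hf).chain_list (img_rep hi) le_rfl h (by decide +kernel) (.of_chainOK q12_ok)

theorem q12_ord : ordL q12_lvs = 95040 := by decide +kernel


/-- Letters in `M₁₂`. -/
def γp : Fin 7 → Equiv.Perm (Fin 12) := ![⟨![0, 1, 2, 3, 5, 6, 10, 9, 11, 8, 4, 7], ![0, 1, 2, 3, 10, 4, 5, 11, 9, 7, 6, 8], by decide, by decide⟩,
  ⟨![1, 3, 0, 2, 4, 5, 6, 11, 9, 7, 10, 8], ![2, 0, 3, 1, 4, 5, 6, 9, 11, 8, 10, 7], by decide, by decide⟩,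
  ⟨![1, 0, 3, 2, 5, 4, 10, 11, 9, 8, 6, 7], ![1, 0, 3, 2, 5, 4, 10, 11, 9, 8, 6, 7], by decide, by decide⟩,
  ⟨![4, 5, 10, 6, 0, 1, 3, 9, 11, 7, 2, 8], ![4, 5, 10, 6, 0, 1, 3, 9, 11, 7, 2, 8], by decide, by decide⟩,
  ⟨![5, 4, 6, 10, 7, 11, 8, 1, 2, 3, 9, 0], ![11, 7, 8, 9, 1, 0, 2, 4, 6, 10, 3, 5], by decide, by decide⟩,
  ⟨![4, 1, 2, 6, 5, 0, 10, 11, 8, 7, 3, 9], ![5, 1, 2, 10, 0, 4, 3, 9, 8, 11, 6, 7], by decide, by decide⟩, 1]

theorem hCp : ∀ p : List (Fin 7) × List (Fin 7), W γp p.1 = W γp p.2 → W γp p.1 = W γp p.2 := fun _ h => h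
theorem rp : Rel (γp 0) (γp 1) (γp 2) (γp 3) := rel_of hCp (by decide +kernel)

theorem rz12 : Rz (1, 2) := by
  have m : ∀ i < 6, γp i ∈ closure {s | s ∈ [γp 0, γp 1, γp 2, γp 3, γp 4, γp 5]} := fun i h =>
    subset_closure ((by decide +kernel : ∀ i < 6, γp i ∈ [γp 0, γp 1, γp 2, γp 3, γp 4, γp 5]) i h)
  have c := (q12_chain (inj_finPt 12) (faithful_finPt 12) (gs := [γp 0, γp 1, γp 2, γp 3, γp 4, γp 5]) (by
    refine .cons ?_ (.cons ?_ (.cons ?_ (.cons ?_ (.cons ?_ (.cons ?_ .nil))))) <;>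
      exact .of_tabOK (by decide +kernel) (by decide +kernel))).card.trans q12_ord
  obtain ⟨F, a, b, k⟩ := pull (e := lift rp) (by decide +kernel) _ (ev_mem fun i h => m i (h.trans (by decide)))
    (by rw [c]; decide)
  refine ⟨F, a, b, (k _ _).2 ⟨_, mul_mem (m 4 (by decide)) (one_mem _), cj2 hCp rp (n := [4]) (by decide +kernel)⟩,
    (k _ _).2 ⟨_, mul_mem (m 5 (by decide)) (one_mem _), cj1 hCp rp (n := [5]) _ (by decide +kernel)⟩, fun t => ?_⟩
  obtain ⟨g, -, h⟩ := (k _ _).1 (t.ge (AddSubmonoid.mem_top (1, 0)))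
  obtain ⟨p, hp⟩ : ∃ p, lift rp ww p = p := by decide +kernel
  refine (by decide +kernel : ∀ p, lift rp (st (1, 0) ww) p ≠ p) (g p) ?_
  rw [← h ww rfl]; simp [hp]

/-! ### `G₂(3)` -/

/-- A matrix from its code. -/
def mx (c : ℕ) : Matrix (Fin 8) (Fin 8) (ZMod 3) := .of fun i j => (c / 3 ^ (8 * i.1 + j.1) : ℕ)
/-- The letters. -/
def mL : Fin 7 → ℕ := ![2243850906703017078761476903126, 2155955341649796032111440815262, 2334233127118920542998223769170, 2422184729370274259160422711402, 2813461517151964508904124514903, 2112056117398357893187804318642, 1760478887209306172337741238618]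
/-- Their inverses. -/
def mI : Fin 7 → ℕ := ![1716497588028157991014615154854, 1892355776107778072430830621254, 2334233127118920542998223769170, 2422184729370274259160422711402, 3431911015292632028281722233465, 1892423497813366271115650796022, 2243850912797913640325321530342]
/-- Letters in `G₂(3)`. -/
def γg (i : Fin 7) : G2 (ZMod 3) := ⟨⟨mx (mL i), mx (mI i), by revert i; decide +kernel, by revert i; decide +kernel⟩,
  Oct.mem_G2_of_single (by revert i; decide +kernel)⟩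
/-- Code of a vector. -/
def env (v : Fin 8 → ZMod 3) : ℕ := (v 0).val + 3 * (v 1).val + 9 * (v 2).val + 27 * (v 3).val + 81 * (v 4).val +
  243 * (v 5).val + 729 * (v 6).val + 2187 * (v 7).val
/-- Decoding. -/
def dcv (n : ℕ) (i : Fin 8) : ZMod 3 := (n / 3 ^ i.1 : ℕ)
theorem dcv_env (v : Fin 8 → ZMod 3) : dcv (env v) = v := by
  have := fun i => (v i).val_lt
  simp only [Fin.forall_fin_succ] at this
  ext i
  rw [← ZMod.natCast_zmod_val (v i), dcv, ZMod.natCast_eq_natCast_iff', env]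
  fin_cases i <;> simp at this ⊢ <;> omega
/-- A word applied to a coded vector. -/
noncomputable def ac (u : List (Fin 7)) (n : ℕ) : ℕ :=
  u.foldr (fun i n => forceN n fun n => env (mx (mL i) *ᵥ dcv n)) n
theorem ac_eq (u : List (Fin 7)) (n : ℕ) : (W γg u).1.1 *ᵥ dcv n = dcv (ac u n) := by
  induction u with
  | nil => simp [W, ac]
  | cons i u ih =>
    rw [ac, List.foldr_cons, forceN_eq, dcv_env, ← ac, ← ih, mulVec_mulVec]; rfl
/-- Two words agree on the basis. -/
def Cg (p : List (Fin 7) × List (Fin 7)) : Prop := ∀ i : Fin 8, ac p.1 (3 ^ i.1) = ac p.2 (3 ^ i.1)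
noncomputable instance decCg : DecidablePred Cg := fun _ => inferInstanceAs (Decidable (∀ _, _))
theorem hCg (p : List (Fin 7) × List (Fin 7)) (h : Cg p) : W γg p.1 = W γg p.2 := by
  have e : ∀ i : Fin 8, dcv (3 ^ i.1) = Pi.single i 1 := by decide
  refine Subtype.ext (Units.ext (Matrix.ext fun i j => ?_))
  simpa [e] using congrFun ((ac_eq p.1 _).trans ((congrArg dcv (h j)).trans (ac_eq p.2 _).symm)) i
theorem rg : Rel (γg 0) (γg 1) (γg 2) (γg 3) := rel_of hCg (by decide +kernel)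
theorem lift_ac (x : M) (n : ℕ) : (lift rg x).1.1 *ᵥ dcv n = dcv (ac (wx x) n) := by rw [lift_apply, ← W_wx, ac_eq]
theorem g_ρ : ∀ x ∈ Q2, W γg [4] * lift rg x * (W γg [4])⁻¹ = lift rg (ρ x) := cj2 hCg rg (by decide +kernel)
theorem g_σ : ∀ x ∈ Q1, W γg [5] * lift rg x * (W γg [5])⁻¹ = lift rg (st (1, 0) x) := cj1 hCg rg _ (by decide +kernel)
theorem g_τ : ∀ x ∈ Q1, W γg [6] * lift rg x * (W γg [6])⁻¹ = lift rg (st (0, 1) x) := cj1 hCg rg _ (by decide +kernel)
theorem g_z : lift rg zz ≠ 1 := fun h => by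
  have := lift_ac zz 1
  rw [h] at this
  exact absurd ((one_mulVec _).symm.trans this) (by decide +kernel)
theorem pull_g (H : Subgroup (G2 (ZMod 3))) (he : ∀ x, lift rg x ∈ H) : ∃ F : FM, Sat F 2 ∧ F.IsRealizable 2 ∧
    ∀ P f, Mor F P f ↔ ∃ g ∈ H, ∀ x ∈ P, g * lift rg x * g⁻¹ = lift rg (f x) :=
  pull g_z H he fun h => absurd (h.trans H.card_subgroup_dvd_card) (by rw [Oct.card_G2, Nat.card_zmod]; decide)

theorem full : ∃ F : FM, Sat F 2 ∧ F.IsRealizable 2 ∧ Mor F Q2 ρ ∧ X F = ⊤ := by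
  obtain ⟨F, a, b, k⟩ := pull_g ⊤ fun _ => trivial
  refine ⟨F, a, b, (k _ _).2 ⟨_, trivial, g_ρ⟩, by_contra fun n => n (top_unique fun v _ => ?_)⟩
  obtain ⟨a, b, rfl⟩ := (by decide : ∀ v : ZMod 3 × ZMod 3, ∃ a b : Fin 3, v = a.1 • (1, 0) + b.1 • (0, 1)) v
  exact add_mem (nsmul_mem (show (1, 0) ∈ X F from (k _ _).2 ⟨_, trivial, g_σ⟩) _)
    (nsmul_mem (show (0, 1) ∈ X F from (k _ _).2 ⟨_, trivial, g_τ⟩) _)

theorem rz11 : Rz (1, 1) := by
  have m : ∀ {g} {P : Subgroup M} {f : M → M}, (∀ x ∈ V, x ∈ P ∧ f x ∈ V) →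
      (∀ x ∈ P, g * lift rg x * g⁻¹ = lift rg (f x)) → g ∈ normalizer (V.map (lift rg) : Set (G2 (ZMod 3))) :=
    fun h1 h2 => mem_normalizer_of_conj_mem (by
      rintro _ ⟨x, hx, rfl⟩
      exact ⟨_, (h1 x hx).2, (h2 x (h1 x hx).1).symm⟩)
  obtain ⟨F, a, b, k⟩ := pull_g (normalizer (V.map (lift rg) : Set (G2 (ZMod 3)))) fun y =>
    m (P := ⊤) (f := fun x => y * x * y⁻¹) (fun x hx => ⟨trivial, (by decide +kernel : ∀ y, ∀ x ∈ V, y * x * y⁻¹ ∈ V) y x hx⟩)
      fun x _ => by simp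
  have s : ∀ x ∈ Q1, W γg [5] * W γg [6] * lift rg x * (W γg [5] * W γg [6])⁻¹ = lift rg (st (1, 1) x) := fun x hx => by
    rw [show ((1, 1) : ZMod 3 × ZMod 3) = (1, 0) + (0, 1) from rfl, st_add _ _ x hx, ← g_σ _ (st_mem _ x hx), ← g_τ x hx]
    group
  refine ⟨F, a, b, (k _ _).2 ⟨_, m (by decide +kernel) g_ρ, g_ρ⟩, (k _ _).2 ⟨_, m (by decide +kernel) s, s⟩, fun t => ?_⟩
  obtain ⟨g, hg, h⟩ := (k _ _).1 (t.ge (AddSubmonoid.mem_top (1, 0)))
  obtain ⟨y, hy, e⟩ := conj_mem_of_mem_normalizer hg (mem_map_of_mem (lift rg) (rfl : ww ∈ V))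
  rw [h ww rfl] at e
  exact absurd (inj_of g_z e ▸ hy : st (1, 0) ww ∈ V) (by decide +kernel)

theorem rz01 : Rz (0, 1) := by
  let H : Subgroup (G2 (ZMod 3)) :=
    { carrier := {g | g.1.1 *ᵥ dcv 1485 = dcv 1485 ∨ g.1.1 *ᵥ dcv 1485 = -dcv 1485}
      one_mem' := .inl (one_mulVec _)
      mul_mem' := fun {g h} a b => by
        change (g.1.1 * h.1.1) *ᵥ _ = _ ∨ (g.1.1 * h.1.1) *ᵥ _ = _
        rcases a with a | a <;> rcases b with b | b <;> simp [← mulVec_mulVec, mulVec_neg, a, b]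
      inv_mem' := fun {g} a => by
        have e : ∀ v, g⁻¹.1.1 *ᵥ g.1.1 *ᵥ v = v := fun v => by
          rw [mulVec_mulVec]; exact (congrArg (· *ᵥ v) g.1.inv_mul).trans (one_mulVec v)
        exact a.imp (fun a => by simpa [a] using e (dcv 1485)) fun a => by
          simpa [a, mulVec_neg, neg_eq_iff_eq_neg] using e (dcv 1485) }
  have m : ∀ u, (dcv (ac u 1485) = dcv 1485 ∨ dcv (ac u 1485) = -dcv 1485) → W γg u ∈ H := fun u h => by
    change _ ∨ _
    rw [ac_eq]; exact h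
  obtain ⟨F, a, b, k⟩ := pull_g H (ev_mem fun i h => mul_one (γg i) ▸ m [i] (by revert i; decide +kernel))
  refine ⟨F, a, b, (k _ _).2 ⟨_, m _ (by decide +kernel), g_ρ⟩, (k _ _).2 ⟨_, m _ (by decide +kernel), g_τ⟩, fun t => ?_⟩
  obtain ⟨g, hg, h⟩ := (k _ _).1 (t.ge (AddSubmonoid.mem_top (1, 0)))
  have e := congrArg (fun g : G2 (ZMod 3) => g.1.1 *ᵥ dcv 1485) (mul_inv_eq_iff_eq_mul.1 (h (t1 0) rfl))
  change (_ * _) *ᵥ _ = (_ * _) *ᵥ _ at e
  have e1 : dcv (ac (wx (t1 0)) 1485) = dcv 1485 := by decide +kernel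
  have e2 : dcv (ac (wx (st (1, 0) (t1 0))) 1485) = -dcv 1485 := by decide +kernel
  rw [← mulVec_mulVec, ← mulVec_mulVec, lift_ac, e1] at e
  rcases hg with a | a <;> simp only [a, mulVec_neg, lift_ac, e2] at e <;> exact absurd e (by decide)

theorem Rz.swap {v : ZMod 3 × ZMod 3} (h : Rz v) : Rz v.swap := by
  obtain ⟨F, a, b, c, d, n⟩ := h
  let θ : MulAut M := ⟨⟨β, β, β_β, β_β⟩, β.map_mul⟩
  obtain ⟨F', i, k⟩ := exists_tr F θ
  obtain ⟨j, i', -⟩ := i.symm
  have e : ∀ v, v ∈ X F' ↔ Mor F (Q1.comap θ.toMonoidHom) fun x => β (st v (β x)) := fun v => k _ _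
  have q : ∀ x, x ∈ Q1.comap θ.toMonoidHom ↔ x ∈ Q1 := fun x => ⟨fun h => β_β x ▸ (β_Q _).1 h, (β_Q x).1⟩
  have e' : ∀ v, v.swap ∈ X F' ↔ v ∈ X F := fun v => (e _).trans (by
    rw [Subgroup.ext q]
    exact ⟨fun h => h.congr fun x hx => by rw [β_st v x hx, β_β], fun h => Mor.congr h fun x hx => by rw [β_st v x hx, β_β]⟩)
  have q2 : ∀ x, β x ∈ Q2 → x ∈ Q2 := fun x h => β_β x ▸ (β_Q _).2 h
  exact ⟨F', i.sat a, Rk2.realizable_of_iso i' b, (k _ _).2 ((c.mono q2).congr fun x hx =>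
    (congrArg β (β_ρ x (q2 x hx))).trans (β_β _)), (e' v).2 d, fun t => n (top_unique fun w _ => (e' w).1 (t.ge trivial))⟩

theorem Rz.two {v : ZMod 3 × ZMod 3} (h : Rz v) : Rz (v + v) :=
  let ⟨F, a, b, c, d, n⟩ := h
  ⟨F, a, b, c, add_mem d d, n⟩

theorem rz (v : ZMod 3 × ZMod 3) (n : v ≠ 0) : Rz v := by
  obtain ⟨w, hw, rfl | rfl⟩ := (by decide : ∀ v : ZMod 3 × ZMod 3, v ≠ 0 →
    ∃ w ∈ [((0, 1) : ZMod 3 × ZMod 3), Prod.swap (0, 1), (1, 1), (1, 2)], v = w ∨ v = w + w) v n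
  all_goals
    have : ∀ w ∈ [((0, 1) : ZMod 3 × ZMod 3), Prod.swap (0, 1), (1, 1), (1, 2)], Rz w := by
      simp only [List.forall_mem_cons]
      exact ⟨rz01, rz01.swap, rz11, rz12, by simp⟩
  exacts [this _ hw, (this _ hw).two]

end Cfsg.Lib.G2F.Tq
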