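import Cfsg.Agent.Lib.G2F.U
import Cfsg.Prelude.Def_Sporadic

/-!
# S5211, `q = 5`: the interface to the sporadic groups.
-/

set_option autoImplicit false

namespace Cfsg.Lib.G2F

open Subgroup U

instance instFact5 : Fact (Nat.Prime 5) := ⟨by norm_num⟩

/-- The Sylow `5`-subgroup of `G₂(5)`, `Ly`, `HN`, `B`. -/
abbrev U5 : Type := U (ZMod 5)

/-- `ι` embeds `U5` as a Sylow `5`-subgroup; `Z1` is not weakly closed, `Z2` and `W` are not normal in `N(Q1)`. -/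
structure Em5 {G : Type*} [Group G] (ι : U5 →* G) : Prop where
  inj : Function.Injective ι
  syl : ¬ 5 ∣ ι.range.index
  wc : ∃ g : G, ∃ y, y ∉ Z1 (ZMod 5) ∧ g * ι (x0 1) * g⁻¹ = ι y
  n2 : ∃ g : G, (∀ x ∈ Q1 (ZMod 5), ∃ y ∈ Q1 (ZMod 5), g * ι x * g⁻¹ = ι y) ∧
    ∃ x ∈ Z2 (ZMod 5), ∃ y, y ∉ Z2 (ZMod 5) ∧ g * ι x * g⁻¹ = ι y
  n3 : ∃ g : G, (∀ x ∈ Q1 (ZMod 5), ∃ y ∈ Q1 (ZMod 5), g * ι x * g⁻¹ = ι y) ∧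
    ∃ x ∈ W (ZMod 5), ∃ y, y ∉ W (ZMod 5) ∧ g * ι x * g⁻¹ = ι y

end Cfsg.Lib.G2F
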