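import Mathlib

/-!
# S5211 (fusion systems on a Sylow `p`-subgroup of `G₂(q)`): the group `U F` in coordinates
`⟨σ, t, s, u, c, z⟩` (roots `a, b, a+b, 2a+b, 3a+b, 3a+2b`), any field `F`.  See `docs/G2F.md`.
`Z1 < Z2 < W < H = Q1 ⊓ Q2 < Q1, Q2`; for `6 ≠ 0` these are characteristic (upper central series, `Q1 = q^{1+4}`).
-/

set_option autoImplicit false

namespace Cfsg.Lib.G2F

open Subgroup
open scoped commutatorElement

/-- The group. -/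
@[ext] structure U (F : Type*) where
  σ : F
  t : F
  s : F
  u : F
  c : F
  z : F
  deriving DecidableEq

namespace U

variable {F : Type*} [Field F] (a b : U F)

instance instOne : One (U F) := ⟨⟨0, 0, 0, 0, 0, 0⟩⟩
instance instMul : Mul (U F) := ⟨fun a b => ⟨a.σ + b.σ, a.t + b.t, a.s + b.s + b.t * a.σ,
  a.u + b.u + b.t * a.σ ^ 2 + 2 * a.σ * b.s,
  a.c + b.c + b.t * a.σ ^ 3 + 3 * b.s * a.σ ^ 2 + 3 * a.σ * b.u,
  a.z + b.z + b.t ^ 2 * a.σ ^ 3 + 3 * a.σ * b.s ^ 2 + 3 * b.t * b.s * a.σ ^ 2 +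
    3 * (b.s + b.t * a.σ) * a.u - b.t * a.c⟩⟩
instance instInv : Inv (U F) := ⟨fun a => ⟨-a.σ, -a.t, -a.s + a.t * a.σ,
  -a.u - a.t * a.σ ^ 2 + 2 * a.σ * a.s,
  -a.c + a.t * a.σ ^ 3 - 3 * a.s * a.σ ^ 2 + 3 * a.σ * a.u,
  -a.z - a.t ^ 2 * a.σ ^ 3 - 3 * a.σ * a.s ^ 2 + 3 * a.t * a.s * a.σ ^ 2 + 3 * a.s * a.u - a.t * a.c⟩⟩

@[simp] theorem one_σ : (1 : U F).σ = 0 := rfl
@[simp] theorem one_t : (1 : U F).t = 0 := rfl
@[simp] theorem one_s : (1 : U F).s = 0 := rfl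
@[simp] theorem one_u : (1 : U F).u = 0 := rfl
@[simp] theorem one_c : (1 : U F).c = 0 := rfl
@[simp] theorem one_z : (1 : U F).z = 0 := rfl
@[simp] theorem mul_σ : (a * b).σ = a.σ + b.σ := rfl
@[simp] theorem mul_t : (a * b).t = a.t + b.t := rfl
theorem mul_s : (a * b).s = a.s + b.s + b.t * a.σ := rfl
theorem mul_u : (a * b).u = a.u + b.u + b.t * a.σ ^ 2 + 2 * a.σ * b.s := rfl
theorem mul_c : (a * b).c = a.c + b.c + b.t * a.σ ^ 3 + 3 * b.s * a.σ ^ 2 + 3 * a.σ * b.u := rfl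
theorem mul_z : (a * b).z = a.z + b.z + b.t ^ 2 * a.σ ^ 3 + 3 * a.σ * b.s ^ 2 + 3 * b.t * b.s * a.σ ^ 2 +
    3 * (b.s + b.t * a.σ) * a.u - b.t * a.c := rfl
@[simp] theorem inv_σ : a⁻¹.σ = -a.σ := rfl
@[simp] theorem inv_t : a⁻¹.t = -a.t := rfl
theorem inv_s : a⁻¹.s = -a.s + a.t * a.σ := rfl
theorem inv_u : a⁻¹.u = -a.u - a.t * a.σ ^ 2 + 2 * a.σ * a.s := rfl
theorem inv_c : a⁻¹.c = -a.c + a.t * a.σ ^ 3 - 3 * a.s * a.σ ^ 2 + 3 * a.σ * a.u := rfl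
theorem inv_z : a⁻¹.z = -a.z - a.t ^ 2 * a.σ ^ 3 - 3 * a.σ * a.s ^ 2 + 3 * a.t * a.s * a.σ ^ 2 +
    3 * a.s * a.u - a.t * a.c := rfl

/-- Expands all coordinates; finish with `ring`. -/
scoped macro "g2_simp" : tactic => `(tactic| simp only [commutatorElement_def, U.mul_σ, U.mul_t, U.mul_s,
  U.mul_u, U.mul_c, U.mul_z, U.inv_σ, U.inv_t, U.inv_s, U.inv_u, U.inv_c, U.inv_z, U.one_σ, U.one_t,
  U.one_s, U.one_u, U.one_c, U.one_z])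

instance instGroup : Group (U F) := Group.ofLeftAxioms
  (fun a b d => by ext <;> simp only [mul_σ, mul_t, mul_s, mul_u, mul_c, mul_z] <;> ring)
  (fun a => by ext <;> simp [mul_s, mul_u, mul_c, mul_z])
  (fun a => by
    ext <;> simp only [mul_σ, mul_t, mul_s, mul_u, mul_c, mul_z, inv_σ, inv_t, inv_s, inv_u, inv_c, inv_z,
      one_σ, one_t, one_s, one_u, one_c, one_z] <;> ring)

/-- As a product. -/
def equivProd (F : Type*) : U F ≃ F × F × F × F × F × F where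
  toFun a := (a.σ, a.t, a.s, a.u, a.c, a.z)
  invFun p := ⟨p.1, p.2.1, p.2.2.1, p.2.2.2.1, p.2.2.2.2.1, p.2.2.2.2.2⟩

instance instFinite {F : Type*} [Finite F] : Finite (U F) := Finite.of_equiv _ (equivProd F).symm

theorem card {F : Type*} : Nat.card (U F) = Nat.card F ^ 6 := by
  rw [Nat.card_congr (equivProd F)]; simp only [Nat.card_prod]; ring

theorem pgroup (p : ℕ) [Fact p.Prime] [CharP F p] [Finite F] : IsPGroup p (U F) := by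
  have := Fintype.ofFinite F
  obtain ⟨n, -, e⟩ := FiniteField.card F p
  exact IsPGroup.of_card (n := n * 6) (by rw [card, Nat.card_eq_fintype_card, e, pow_mul])

/-- The alternating form on `Q1 / Z1`. -/
def ω : F := a.t * b.c - b.t * a.c - 3 * a.s * b.u + 3 * b.s * a.u

/-! ### Conjugation and commutators `⁅a, b⁆ = a b a⁻¹ b⁻¹` -/

@[simp] theorem cj_σ : (a * b * a⁻¹).σ = b.σ := by simp
@[simp] theorem cj_t : (a * b * a⁻¹).t = b.t := by simp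
theorem cj_s : (a * b * a⁻¹).s = b.s + b.t * a.σ - a.t * b.σ := by g2_simp; ring
theorem cj_u : (a * b * a⁻¹).u = b.u + b.t * a.σ ^ 2 + 2 * a.σ * b.s - a.t * b.σ ^ 2 - 2 * b.σ * a.s := by
  g2_simp; ring
theorem cj_s_Q1 {b : U F} (h : b.σ = 0) : (a * b * a⁻¹).s = b.s + b.t * a.σ := by rw [cj_s, h]; ring
theorem cj_u_Q1 {b : U F} (h : b.σ = 0) : (a * b * a⁻¹).u = b.u + b.t * a.σ ^ 2 + 2 * a.σ * b.s := by
  rw [cj_u, h]; ring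
theorem cj_c_Q1 {b : U F} (h : b.σ = 0) : (a * b * a⁻¹).c =
    b.c + b.t * a.σ ^ 3 + 3 * b.s * a.σ ^ 2 + 3 * a.σ * b.u := by g2_simp; rw [h]; ring

@[simp] theorem cm_σ : ⁅a, b⁆.σ = 0 := by simp [commutatorElement_def]
@[simp] theorem cm_t : ⁅a, b⁆.t = 0 := by simp [commutatorElement_def]
theorem cm_s : ⁅a, b⁆.s = b.t * a.σ - a.t * b.σ := by g2_simp; ring
theorem cm_u : ⁅a, b⁆.u = b.t * a.σ ^ 2 + 2 * a.σ * b.s - a.t * b.σ ^ 2 - 2 * b.σ * a.s := by g2_simp; ring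
theorem cm_c_Q1 {b : U F} (h : b.σ = 0) : ⁅a, b⁆.c = b.t * a.σ ^ 3 + 3 * b.s * a.σ ^ 2 + 3 * a.σ * b.u := by
  g2_simp; rw [h]; ring

/-! ### Root elements and subgroups -/

/-- Root element (`3a + 2b`). -/
def x0 (l : F) : U F := ⟨0, 0, 0, 0, 0, l⟩
/-- Root element (`3a + b`). -/
def x2 (l : F) : U F := ⟨0, 0, 0, 0, l, 0⟩
/-- Root element (`2a + b`). -/
def x1 (l : F) : U F := ⟨0, 0, 0, l, 0, 0⟩
/-- Root element (`a + b`). -/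
def x11 (l : F) : U F := ⟨0, 0, l, 0, 0, 0⟩
/-- Root element (`b`). -/
def x10 (l : F) : U F := ⟨0, l, 0, 0, 0, 0⟩
/-- Root element (`a`). -/
def x3 (l : F) : U F := ⟨l, 0, 0, 0, 0, 0⟩

theorem x0_mul (x y : F) : x0 x * x0 y = x0 (x + y) := by ext <;> simp [x0, mul_s, mul_u, mul_c, mul_z]
theorem x2_mul (x y : F) : x2 x * x2 y = x2 (x + y) := by ext <;> simp [x2, mul_s, mul_u, mul_c, mul_z]
theorem x1_mul (x y : F) : x1 x * x1 y = x1 (x + y) := by ext <;> simp [x1, mul_s, mul_u, mul_c, mul_z]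
theorem x11_mul (x y : F) : x11 x * x11 y = x11 (x + y) := by ext <;> simp [x11, mul_s, mul_u, mul_c, mul_z]
theorem x10_mul (x y : F) : x10 x * x10 y = x10 (x + y) := by ext <;> simp [x10, mul_s, mul_u, mul_c, mul_z]
theorem x3_mul (x y : F) : x3 x * x3 y = x3 (x + y) := by ext <;> simp [x3, mul_s, mul_u, mul_c, mul_z]
@[simp] theorem x0_zero : x0 (0 : F) = 1 := rfl
@[simp] theorem x2_zero : x2 (0 : F) = 1 := rfl
@[simp] theorem x1_zero : x1 (0 : F) = 1 := rfl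
@[simp] theorem x11_zero : x11 (0 : F) = 1 := rfl
@[simp] theorem x10_zero : x10 (0 : F) = 1 := rfl
@[simp] theorem x3_zero : x3 (0 : F) = 1 := rfl
theorem x0_eq_one {x : F} : x0 x = 1 ↔ x = 0 := ⟨fun h => congrArg U.z h, fun h => h ▸ rfl⟩
theorem x0_inj {x y : F} (h : x0 x = x0 y) : x = y := congrArg U.z h
theorem x0_inv (x : F) : (x0 x)⁻¹ = x0 (-x) := inv_eq_of_mul_eq_one_right (by rw [x0_mul, add_neg_cancel, x0_zero])
theorem x3_inv (x : F) : (x3 x)⁻¹ = x3 (-x) := inv_eq_of_mul_eq_one_right (by rw [x3_mul, add_neg_cancel, x3_zero])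
theorem x10_inv (x : F) : (x10 x)⁻¹ = x10 (-x) :=
  inv_eq_of_mul_eq_one_right (by rw [x10_mul, add_neg_cancel, x10_zero])
/-- Normal form. -/
theorem nf : a = x1 a.u * x11 a.s * x10 a.t * x2 (a.c) * x0 (a.z - 3 * a.s * a.u) * x3 a.σ := by
  ext <;> simp [x0, x1, x2, x3, x10, x11, mul_s, mul_u, mul_c, mul_z]

variable (F) in
/-- `σ = 0`; order `q⁵`, special of shape `q^{1+4}` if `3 ≠ 0`. -/
def Q1 : Subgroup (U F) where
  carrier := {a | a.σ = 0}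
  one_mem' := rfl
  mul_mem' := by simp +contextual
  inv_mem' := by simp
variable (F) in
/-- `t = 0`; order `q⁵`. -/
def Q2 : Subgroup (U F) where
  carrier := {a | a.t = 0}
  one_mem' := rfl
  mul_mem' := by simp +contextual
  inv_mem' := by simp
variable (F) in
/-- `Q1 ⊓ Q2`; order `q⁴`. -/
def H : Subgroup (U F) where
  carrier := {a | a.σ = 0 ∧ a.t = 0}
  one_mem' := ⟨rfl, rfl⟩
  mul_mem' := by simp +contextual
  inv_mem' := by simp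
variable (F) in
/-- Abelian of order `q³`. -/
def W : Subgroup (U F) where
  carrier := {a | a.σ = 0 ∧ a.t = 0 ∧ a.s = 0}
  one_mem' := ⟨rfl, rfl, rfl⟩
  mul_mem' := by simp +contextual [mul_s]
  inv_mem' := by simp +contextual [inv_s]
variable (F) in
/-- Order `q²`. -/
def Z2 : Subgroup (U F) where
  carrier := {a | a.σ = 0 ∧ a.t = 0 ∧ a.s = 0 ∧ a.u = 0}
  one_mem' := ⟨rfl, rfl, rfl, rfl⟩
  mul_mem' := by simp +contextual [mul_s, mul_u]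
  inv_mem' := by simp +contextual [inv_s, inv_u]
variable (F) in
/-- Order `q`. -/
def Z1 : Subgroup (U F) where
  carrier := {a | a.σ = 0 ∧ a.t = 0 ∧ a.s = 0 ∧ a.u = 0 ∧ a.c = 0}
  one_mem' := ⟨rfl, rfl, rfl, rfl, rfl⟩
  mul_mem' := by simp +contextual [mul_s, mul_u, mul_c]
  inv_mem' := by simp +contextual [inv_s, inv_u, inv_c]

variable {a b}

theorem mem_Q1 : a ∈ Q1 F ↔ a.σ = 0 := Iff.rfl
theorem mem_Q2 : a ∈ Q2 F ↔ a.t = 0 := Iff.rfl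
theorem mem_H : a ∈ H F ↔ a.σ = 0 ∧ a.t = 0 := Iff.rfl
theorem mem_W : a ∈ W F ↔ a.σ = 0 ∧ a.t = 0 ∧ a.s = 0 := Iff.rfl
theorem mem_Z2 : a ∈ Z2 F ↔ a.σ = 0 ∧ a.t = 0 ∧ a.s = 0 ∧ a.u = 0 := Iff.rfl
theorem mem_Z1 : a ∈ Z1 F ↔ a.σ = 0 ∧ a.t = 0 ∧ a.s = 0 ∧ a.u = 0 ∧ a.c = 0 := Iff.rfl

theorem Z1_Z2 : Z1 F ≤ Z2 F := fun _ h => ⟨h.1, h.2.1, h.2.2.1, h.2.2.2.1⟩
theorem Z2_W : Z2 F ≤ W F := fun _ h => ⟨h.1, h.2.1, h.2.2.1⟩
theorem W_H : W F ≤ H F := fun _ h => ⟨h.1, h.2.1⟩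
theorem H_Q1 : H F ≤ Q1 F := fun _ h => h.1
theorem H_Q2 : H F ≤ Q2 F := fun _ h => h.2
theorem W_Q1 : W F ≤ Q1 F := fun _ h => h.1
theorem W_Q2 : W F ≤ Q2 F := fun _ h => h.2.1
theorem Z2_Q1 : Z2 F ≤ Q1 F := fun _ h => h.1
theorem Z2_Q2 : Z2 F ≤ Q2 F := fun _ h => h.2.1
theorem Z1_Q1 : Z1 F ≤ Q1 F := fun _ h => h.1
theorem Z1_Q2 : Z1 F ≤ Q2 F := fun _ h => h.2.1
theorem Z1_W : Z1 F ≤ W F := Z1_Z2.trans Z2_W
theorem x0_mem (l : F) : x0 l ∈ Z1 F := ⟨rfl, rfl, rfl, rfl, rfl⟩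
theorem x2_mem (l : F) : x2 l ∈ Z2 F := ⟨rfl, rfl, rfl, rfl⟩
theorem x1_mem (l : F) : x1 l ∈ W F := ⟨rfl, rfl, rfl⟩
theorem x11_mem (l : F) : x11 l ∈ H F := ⟨rfl, rfl⟩
theorem x10_mem (l : F) : x10 l ∈ Q1 F := rfl
theorem x3_mem (l : F) : x3 l ∈ Q2 F := rfl
theorem eq_x0 (h : a ∈ Z1 F) : a = x0 a.z := U.ext h.1 h.2.1 h.2.2.1 h.2.2.2.1 h.2.2.2.2 rfl

theorem cm_H (a b : U F) : ⁅a, b⁆ ∈ H F := ⟨cm_σ a b, cm_t a b⟩
theorem cm_Q1 (ha : a ∈ Q1 F) (hb : b ∈ Q1 F) : ⁅a, b⁆ = x0 (a.ω b) := by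
  rw [mem_Q1] at ha hb
  ext <;> simp only [x0, ω] <;> g2_simp <;> (try simp only [ha, hb]) <;> ring
theorem cm_Q1Z (ha : a ∈ Q1 F) (hb : b ∈ Q1 F) : ⁅a, b⁆ ∈ Z1 F := cm_Q1 ha hb ▸ x0_mem _
theorem cm_HW (a : U F) (hb : b ∈ H F) : ⁅a, b⁆ ∈ W F :=
  ⟨cm_σ a b, cm_t a b, by rw [cm_s, hb.1, hb.2]; simp⟩
theorem cm_Q2W (ha : a ∈ Q2 F) (hb : b ∈ Q2 F) : ⁅a, b⁆ ∈ W F :=
  ⟨cm_σ a b, cm_t a b, by rw [cm_s, mem_Q2.1 ha, mem_Q2.1 hb]; simp⟩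
theorem cm_Q2_u (ha : a ∈ Q2 F) (hb : b ∈ Q2 F) : ⁅a, b⁆.u = 2 * a.σ * b.s - 2 * b.σ * a.s := by
  rw [cm_u, mem_Q2.1 ha, mem_Q2.1 hb]; ring
theorem cm_H_u (a : U F) (hb : b ∈ H F) : ⁅a, b⁆.u = 2 * a.σ * b.s := by rw [cm_u, hb.1, hb.2]; ring
theorem cm_W (a : U F) (hb : b ∈ W F) : ⁅a, b⁆ =
    ⟨0, 0, 0, 0, 3 * a.σ * b.u, a.t * (b.c + 3 * a.σ * b.u) - 3 * a.s * b.u⟩ := by
  obtain ⟨h1, h2, h3⟩ := hb
  ext <;> g2_simp <;> simp only [h1, h2, h3] <;> ring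
theorem cm_WZ (a : U F) (hb : b ∈ W F) : ⁅a, b⁆ ∈ Z2 F := cm_W a hb ▸ ⟨rfl, rfl, rfl, rfl⟩
theorem cm_Z2 (a : U F) (hb : b ∈ Z2 F) : ⁅a, b⁆ = x0 (a.t * b.c) := by
  rw [cm_W a (Z2_W hb), hb.2.2.2]; simp [x0]
theorem cm_Z2Z (a : U F) (hb : b ∈ Z2 F) : ⁅a, b⁆ ∈ Z1 F := cm_Z2 a hb ▸ x0_mem _
theorem cm_Z1 (a : U F) (hb : b ∈ Z1 F) : ⁅a, b⁆ = 1 := by
  rw [cm_Z2 a (Z1_Z2 hb), hb.2.2.2.2, mul_zero, x0_zero]
theorem comm_Z1 (a : U F) (hb : b ∈ Z1 F) : a * b = b * a :=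
  commutatorElement_eq_one_iff_mul_comm.1 (cm_Z1 a hb)
theorem cm_Q2Z2 (ha : a ∈ Q2 F) (hb : b ∈ Z2 F) : ⁅a, b⁆ = 1 := by
  rw [cm_Z2 a hb, mem_Q2.1 ha, zero_mul, x0_zero]
theorem cm_WW (ha : a ∈ W F) (hb : b ∈ W F) : ⁅a, b⁆ = 1 := by
  rw [cm_W a hb, ha.1, ha.2.1, ha.2.2]; simp; rfl
theorem cm_swap {X : Type*} [Group X] {A : Subgroup X} {a b : X} (h : ⁅a, b⁆ ∈ A) : ⁅b, a⁆ ∈ A := by
  simpa using inv_mem h
theorem cm1_swap {X : Type*} [Group X] {a b : X} (h : ⁅a, b⁆ = 1) : ⁅b, a⁆ = 1 :=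
  commutatorElement_eq_one_iff_commute.2 (commutatorElement_eq_one_iff_commute.1 h).symm

theorem normal_of {A : Subgroup (U F)} (h : ∀ a : U F, ∀ b ∈ A, ⁅a, b⁆ ∈ A) : A.Normal :=
  ⟨fun b hb a => by simpa [commutatorElement_def] using mul_mem (h a b hb) hb⟩
instance Q1_normal : (Q1 F).Normal := normal_of fun a b _ => cm_σ a b
instance Q2_normal : (Q2 F).Normal := normal_of fun a b _ => cm_t a b
instance H_normal : (H F).Normal := normal_of fun a b _ => cm_H a b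
instance W_normal : (W F).Normal := normal_of fun a _ h => Z2_W (cm_WZ a h)
instance Z2_normal : (Z2 F).Normal := normal_of fun a _ h => Z1_Z2 (cm_Z2Z a h)
instance Z1_normal : (Z1 F).Normal := normal_of fun a _ h => cm_Z1 a h ▸ one_mem _

/-! ### Characterizations for `2 ≠ 0`, `3 ≠ 0` -/

theorem mem_Q2_of (h : ∀ b ∈ Z2 F, ⁅a, b⁆ = 1) : a ∈ Q2 F := by
  have := h _ (x2_mem 1)
  rw [cm_Z2 a (x2_mem 1), x0_eq_one] at this
  simpa [x2, mem_Q2] using this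
theorem mem_H_of (h : ∀ b : U F, ⁅b, a⁆ ∈ W F) : a ∈ H F := by
  have h1 := (h (x3 1)).2.2
  have h2 := (h (x10 1)).2.2
  rw [cm_s] at h1 h2
  exact ⟨by simpa [x10] using h2, by simpa [x3] using h1⟩

/-- The characteristic is not `2` or `3`. -/
class Six (F : Type*) [Field F] : Prop where
  two : (2 : F) ≠ 0
  three : (3 : F) ≠ 0

variable [Six F]

theorem two_ne : (2 : F) ≠ 0 := Six.two
theorem three_ne : (3 : F) ≠ 0 := Six.three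

theorem mem_Q1_of (h : ∀ b ∈ W F, ⁅a, b⁆ ∈ Z1 F) : a ∈ Q1 F := by
  have := h _ (x1_mem 1)
  rw [cm_W a (x1_mem 1)] at this
  simpa [x1, three_ne, mem_Q1] using this.2.2.2.2
/-- `W = {a ∈ Q2 | ⁅Q2, a⁆ ≤ Z2}`. -/
theorem mem_W_of (ha : a ∈ Q2 F) (h : ∀ b ∈ Q2 F, ⁅b, a⁆ ∈ Z2 F) : a ∈ W F := by
  have h1 := (h _ (H_Q2 (x11_mem 1))).2.2.2
  have h2 := (h _ (x3_mem 1)).2.2.2
  rw [cm_Q2_u (H_Q2 (x11_mem 1)) ha] at h1
  rw [cm_Q2_u (x3_mem 1) ha] at h2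
  exact ⟨by simpa [x11, two_ne] using h1, ha, by simpa [x3, two_ne] using h2⟩
theorem mem_W_of' (h : ∀ b : U F, ⁅b, a⁆ ∈ Z2 F) : a ∈ W F :=
  mem_W_of (H_Q2 (mem_H_of fun b => Z2_W (h b))) fun b _ => h b
/-- `C_{Q2}(W) = W`. -/
theorem mem_W_of_cm (ha : a ∈ Q2 F) (h : ∀ b ∈ W F, ⁅a, b⁆ = 1) : a ∈ W F := by
  have h1 : a.σ = 0 := mem_Q1_of fun b hb => h b hb ▸ one_mem _
  have := congrArg U.z (h _ (x1_mem 1))
  rw [cm_W a (x1_mem 1)] at this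
  exact ⟨h1, ha, by simpa [x1, mem_Q2.1 ha, three_ne] using this⟩
theorem mem_Z2_of' (ha : a ∈ W F) (h : ⁅x3 (1 : F), a⁆ ∈ Z1 F) : a ∈ Z2 F := by
  rw [cm_W _ ha] at h
  exact ⟨ha.1, ha.2.1, ha.2.2, by simpa [x3, three_ne] using h.2.2.2.2⟩
theorem mem_Z2_of (h : ∀ b : U F, ⁅b, a⁆ ∈ Z1 F) : a ∈ Z2 F :=
  mem_Z2_of' (mem_W_of' fun b => Z1_Z2 (h b)) (h _)
/-- `Z(Q2) = Z2`. -/
theorem mem_Z2_of_cm (ha : a ∈ Q2 F) (h : ∀ b ∈ Q2 F, ⁅b, a⁆ = 1) : a ∈ Z2 F :=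
  mem_Z2_of' (mem_W_of ha fun b hb => h b hb ▸ one_mem _) (h _ (x3_mem 1) ▸ one_mem _)
/-- `C(Q1) = Z1`. -/
theorem mem_Z1_of (h : ∀ b ∈ Q1 F, ⁅b, a⁆ = 1) : a ∈ Z1 F := by
  have h1 : a.σ = 0 := mem_Q1_of fun b hb => cm1_swap (h b (W_Q1 hb)) ▸ one_mem _
  have e : ∀ b ∈ Q1 F, b.ω a = 0 := fun b hb => x0_eq_one.1 (cm_Q1 hb h1 ▸ h b hb)
  refine ⟨h1, ?_, ?_, ?_, ?_⟩
  · simpa [ω, x2] using e _ (Z2_Q1 (x2_mem 1))
  · simpa [ω, x1, three_ne] using e _ (W_Q1 (x1_mem 1))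
  · simpa [ω, x11, three_ne] using e _ (H_Q1 (x11_mem 1))
  · simpa [ω, x10] using e _ (x10_mem 1)

omit [Six F] in
theorem aut_iff (α : MulAut (U F)) {A : Subgroup (U F)} (h : ∀ β : MulAut (U F), ∀ a ∈ A, β a ∈ A) :
    α a ∈ A ↔ a ∈ A := ⟨fun e => by simpa using h α⁻¹ _ e, h α a⟩
theorem aut_Z1 (α : MulAut (U F)) (a : U F) (h : a ∈ Z1 F) : α a ∈ Z1 F := mem_Z1_of fun b _ => by
  obtain ⟨b, rfl⟩ := α.surjective b
  rw [← map_commutatorElement, cm_Z1 b h, map_one]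
theorem aut_Z2 (α : MulAut (U F)) (a : U F) (h : a ∈ Z2 F) : α a ∈ Z2 F := mem_Z2_of fun b => by
  obtain ⟨b, rfl⟩ := α.surjective b
  rw [← map_commutatorElement]; exact aut_Z1 α _ (cm_Z2Z b h)
theorem aut_W (α : MulAut (U F)) (a : U F) (h : a ∈ W F) : α a ∈ W F := mem_W_of' fun b => by
  obtain ⟨b, rfl⟩ := α.surjective b
  rw [← map_commutatorElement]; exact aut_Z2 α _ (cm_WZ b h)
theorem aut_H (α : MulAut (U F)) (a : U F) (h : a ∈ H F) : α a ∈ H F := mem_H_of fun b => by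
  obtain ⟨b, rfl⟩ := α.surjective b
  rw [← map_commutatorElement]; exact aut_W α _ (cm_HW b h)
theorem aut_Q2 (α : MulAut (U F)) (a : U F) (h : a ∈ Q2 F) : α a ∈ Q2 F := mem_Q2_of fun b hb => by
  obtain ⟨b, rfl⟩ := α.surjective b
  rw [← map_commutatorElement, cm_Q2Z2 h ((aut_iff α aut_Z2).1 hb), map_one]
theorem aut_Q1 (α : MulAut (U F)) (a : U F) (h : a ∈ Q1 F) : α a ∈ Q1 F := mem_Q1_of fun b hb => by
  obtain ⟨b, rfl⟩ := α.surjective b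
  rw [← map_commutatorElement]; exact aut_Z1 α _ (cm_Q1Z h (W_Q1 ((aut_iff α aut_W).1 hb)))

end U

/-! ### Diagonal-field automorphisms -/

open U

variable {F : Type*} [Field F]

/-- Parameters `(a, b, θ)` of a diagonal-field automorphism. -/
@[ext] structure Par (F : Type*) [Field F] where
  a : Fˣ
  b : Fˣ
  θ : F ≃+* F

namespace Par

variable (d e : Par F)

/-- The automorphism as a map; weights `a, b, ab, a²b, a³b, a³b²`. -/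
def fn (x : U F) : U F := ⟨d.a * d.θ x.σ, d.b * d.θ x.t, d.a * d.b * d.θ x.s, d.a ^ 2 * d.b * d.θ x.u,
  d.a ^ 3 * d.b * d.θ x.c, d.a ^ 3 * d.b ^ 2 * d.θ x.z⟩

@[simp] theorem fn_σ (x : U F) : (d.fn x).σ = d.a * d.θ x.σ := rfl
@[simp] theorem fn_t (x : U F) : (d.fn x).t = d.b * d.θ x.t := rfl
@[simp] theorem fn_s (x : U F) : (d.fn x).s = d.a * d.b * d.θ x.s := rfl
@[simp] theorem fn_u (x : U F) : (d.fn x).u = d.a ^ 2 * d.b * d.θ x.u := rfl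
@[simp] theorem fn_c (x : U F) : (d.fn x).c = d.a ^ 3 * d.b * d.θ x.c := rfl
@[simp] theorem fn_z (x : U F) : (d.fn x).z = d.a ^ 3 * d.b ^ 2 * d.θ x.z := rfl

instance instOne : One (Par F) := ⟨⟨1, 1, 1⟩⟩
instance instMul : Mul (Par F) :=
  ⟨fun d e => ⟨d.a * Units.map d.θ.toMonoidHom e.a, d.b * Units.map d.θ.toMonoidHom e.b, d.θ * e.θ⟩⟩
instance instInv : Inv (Par F) :=
  ⟨fun d => ⟨Units.map d.θ.symm.toMonoidHom d.a⁻¹, Units.map d.θ.symm.toMonoidHom d.b⁻¹, d.θ⁻¹⟩⟩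
@[simp] theorem one_a : (1 : Par F).a = 1 := rfl
@[simp] theorem one_b : (1 : Par F).b = 1 := rfl
@[simp] theorem one_θ : (1 : Par F).θ = 1 := rfl
@[simp] theorem mul_a : ((d * e).a : F) = d.a * d.θ e.a := rfl
@[simp] theorem mul_b : ((d * e).b : F) = d.b * d.θ e.b := rfl
@[simp] theorem mul_θ : (d * e).θ = d.θ * e.θ := rfl
@[simp] theorem inv_a : (d⁻¹.a : F) = d.θ.symm (d.a : F)⁻¹ := by
  rw [← Units.val_inv_eq_inv_val]; rfl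
@[simp] theorem inv_b : (d⁻¹.b : F) = d.θ.symm (d.b : F)⁻¹ := by
  rw [← Units.val_inv_eq_inv_val]; rfl
@[simp] theorem inv_θ : d⁻¹.θ = d.θ⁻¹ := rfl
theorem θ_mul (f g : F ≃+* F) (x : F) : (f * g) x = f (g x) := rfl
theorem θ_inv (f : F ≃+* F) (x : F) : f⁻¹ x = f.symm x := rfl
theorem θ_one (x : F) : (1 : F ≃+* F) x = x := rfl

instance instGroup : Group (Par F) := Group.ofLeftAxioms
  (fun a b c => Par.ext (Units.ext (by simp [θ_mul, mul_assoc])) (Units.ext (by simp [θ_mul, mul_assoc]))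
    (mul_assoc _ _ _))
  (fun a => Par.ext (Units.ext (by simp [θ_one])) (Units.ext (by simp [θ_one])) (one_mul _))
  (fun a => Par.ext (Units.ext (by simp [θ_inv, ← map_mul])) (Units.ext (by simp [θ_inv, ← map_mul]))
    (inv_mul_cancel _))

theorem fn_one (x : U F) : (1 : Par F).fn x = x := by ext <;> simp [θ_one]
theorem fn_mul (x : U F) : (d * e).fn x = d.fn (e.fn x) := by
  ext <;> simp only [fn_σ, fn_t, fn_s, fn_u, fn_c, fn_z, mul_a, mul_b, mul_θ, θ_mul, map_mul, map_pow] <;> ring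
theorem fn_map_mul (x y : U F) : d.fn (x * y) = d.fn x * d.fn y := by
  ext <;> simp only [fn_σ, fn_t, fn_s, fn_u, fn_c, fn_z, mul_σ, mul_t, mul_s, mul_u, mul_c, mul_z, map_add,
    map_sub, map_mul, map_pow, map_ofNat] <;> ring

/-- The action on `U F`. -/
def tw : Par F →* MulAut (U F) where
  toFun d := ⟨⟨d.fn, d⁻¹.fn, fun x => by rw [← fn_mul, inv_mul_cancel, fn_one],
    fun x => by rw [← fn_mul, mul_inv_cancel, fn_one]⟩, d.fn_map_mul⟩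
  map_one' := MulEquiv.ext fn_one
  map_mul' d e := MulEquiv.ext (fn_mul d e)
@[simp] theorem tw_apply (x : U F) : tw d x = d.fn x := rfl

end Par

/-- Diagonal automorphism. -/
def dg (a b : Fˣ) : Par F := ⟨a, b, 1⟩
@[simp] theorem dg_a (a b : Fˣ) : (dg a b).a = a := rfl
@[simp] theorem dg_b (a b : Fˣ) : (dg a b).b = b := rfl
@[simp] theorem dg_θ (a b : Fˣ) (x : F) : (dg a b).θ x = x := rfl
theorem dg_mul (a b a' b' : Fˣ) : dg a b * dg a' b' = dg (a * a') (b * b') := rfl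
theorem dg_one : dg (1 : Fˣ) 1 = 1 := rfl

end Cfsg.Lib.G2F
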